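import Groth.Agent.Sga3C.GrpIrr
import Mathlib.AlgebraicGeometry.Group.Smooth
import Mathlib.AlgebraicGeometry.Geometrically.Integral
import Mathlib.AlgebraicGeometry.Geometrically.Connected
import Mathlib.AlgebraicGeometry.Geometrically.Reduced
import Mathlib.AlgebraicGeometry.Morphisms.SmoothFiber

/-!
# Basic facts on abelian schemes

A group scheme, flat and locally of finite presentation over the base, with geometrically reduced
and geometrically connected fibres is smooth with geometrically integral fibres.
-/

set_option autoImplicit false
universe u

open CategoryTheory Limits MonoidalCategory CartesianMonoidalCategory MonObj AlgebraicGeometry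

namespace K449.Basic

/-- Group schemes locally of finite type with geometrically reduced and geometrically connected
fibres are geometrically integral. -/
theorem geometricallyIntegral {S : Scheme.{u}} (X : Over S) [GrpObj X] [LocallyOfFiniteType X.hom]
    [GeometricallyReduced X.hom] [GeometricallyConnected X.hom] : GeometricallyIntegral X.hom := by
  have h0 : GrpObj (Over.mk X.hom) := inferInstanceAs (GrpObj X)
  have h1 : GeometricallyIrreducible X.hom :=
    Groth.Agent.Sga3C.GrpIrr.geometricallyIrreducible_of_connected_fibres X.hom
      (fun s => X.hom.isConnected_preimage_singleton s)
  exact GeometricallyIntegral.of_geometricallyReduced_of_geometricallyIrreducible X.hom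

/-- Flat group schemes, locally of finite presentation, with geometrically reduced fibres are
smooth. -/
theorem smooth {S : Scheme.{u}} (X : Over S) [GrpObj X] [LocallyOfFinitePresentation X.hom]
    [Flat X.hom] [GeometricallyReduced X.hom] : Smooth X.hom := by
  have h0 : GrpObj (Over.mk X.hom) := inferInstanceAs (GrpObj X)
  refine Smooth.of_smooth_fiberToSpecResidueField X.hom fun s => ?_
  let : GrpObj (Over.mk (Limits.pullback.snd X.hom (S.fromSpecResidueField s))) :=
    Over.grpObjMkPullbackSnd
  have : GeometricallyReduced (Limits.pullback.snd X.hom (S.fromSpecResidueField s)) :=
    inferInstanceAs (GeometricallyReduced (X.hom.fiberToSpecResidueField s))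
  exact smooth_of_grpObj (K := S.residueField s)
    (Limits.pullback.snd X.hom (S.fromSpecResidueField s))

end K449.Basic
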