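import Groth.Agent.AbSch.K449.Basic
import Groth.Agent.Grpsch.CubePush

/-!
# `O_S = p_* O_X` for abelian schemes
-/

set_option autoImplicit false
universe u

open CategoryTheory Limits MonoidalCategory CartesianMonoidalCategory MonObj AlgebraicGeometry

namespace K449.Push

variable {S : Scheme.{u}} (X : Over S) [GrpObj X] [IsProper X.hom] [Flat X.hom]
  [LocallyOfFinitePresentation X.hom] [GeometricallyReduced X.hom] [GeometricallyConnected X.hom]

/-- `O_S = p_* O_X` for abelian schemes. -/
theorem isIso_app (V : S.Opens) : IsIso (X.hom.app V) := by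
  have := K449.Basic.geometricallyIntegral X
  exact Groth.Agent.Grpsch.CubeData.isIso_app X.hom V

/-- `O_S = p_* O_X` for abelian schemes. -/
theorem isIso_appTop : IsIso X.hom.appTop := isIso_app X ⊤

end K449.Push
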