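import Groth.Agent.AbSch.K449.Rigid

/-!
# The rigidity lemma, with conditions after base change
-/

set_option autoImplicit false
universe u

open CategoryTheory Limits AlgebraicGeometry

namespace K449.Rigid2

open K449.Rigid

/-- The rigidity lemma: the locus over which the pointed morphism `h` is constant is open and
closed, and contains the image of every `σ : T ⟶ S` such that `h` is constant after base change
to `T`. -/
theorem exists_clopen {X S Y : Scheme.{u}} (p : X ⟶ S) (hc : IsClosedMap p) (ho : IsOpenMap p)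
    (hp : ∀ V : S.Opens, IsIso (p.app V)) (e : S ⟶ X) (he : e ≫ p = 𝟙 S)
    (q : Y ⟶ S) [IsSeparated q] (h : X ⟶ Y) (hq : h ≫ q = p) :
    ∃ W : S.Opens, IsClosed (W : Set S) ∧ (p ⁻¹ᵁ W).ι ≫ h = (p ⁻¹ᵁ W).ι ≫ p ≫ e ≫ h ∧
      ∀ (T : Scheme.{u}) (σ : T ⟶ S),
        pullback.fst p σ ≫ h = pullback.fst p σ ≫ p ≫ e ≫ h → Set.range σ ⊆ W := by
  have hw : h ≫ q = (p ≫ e ≫ h) ≫ q := by
    rw [Category.assoc, Category.assoc, hq, he, Category.comp_id]
  -- the equalizer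
  obtain ⟨E', i, hi, hcond, hlift⟩ := exists_equalizer q h (p ≫ e ≫ h) hw
  let E : Set X := Set.range i
  have hEc : IsClosed E := i.isClosedEmbedding.isClosed_range
  have hEq : ∀ x ∈ E, h x = h (e (p x)) := by
    rintro _ ⟨z, rfl⟩
    have := congrArg (fun t => t z) hcond
    simpa using this
  have hlift' : ∀ (T : Scheme.{u}) (t : T ⟶ X), t ≫ h = t ≫ p ≫ e ≫ h → ∀ z : T, t z ∈ E := by
    intro T t ht z
    obtain ⟨u, hu⟩ := hlift T t ht
    exact ⟨u z, by rw [← Scheme.Hom.comp_apply, hu]⟩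
  let W : Set S := (p '' Eᶜ)ᶜ
  have hmem : ∀ t : S, t ∈ W ↔ ∀ x : X, p x = t → x ∈ E := by
    intro t
    constructor
    · intro ht x hx
      by_contra hx'
      exact ht ⟨x, hx', hx⟩
    · rintro ht ⟨x, hx, hx'⟩
      exact hx (ht x hx')
  have hWc : IsClosed W := (ho _ hEc.isOpen_compl).isClosed_compl
  have key : ∀ t ∈ W, ∃ U : S.Opens, t ∈ U ∧ (p ⁻¹ᵁ U).ι ≫ h = (p ⁻¹ᵁ U).ι ≫ p ≫ e ≫ h := by
    intro t ht
    refine exists_open_of_fibre_section p hc hp e he h t fun x hx => ?_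
    rw [hEq x ((hmem t).mp ht x hx), hx]
  have hWo : IsOpen W := by
    rw [isOpen_iff_forall_mem_open]
    intro t ht
    obtain ⟨U, htU, hU⟩ := key t ht
    refine ⟨U, fun t' ht' => (hmem t').mpr fun x hx => ?_, U.isOpen, htU⟩
    have hx' : x ∈ p ⁻¹ᵁ U := by
      change p x ∈ U
      rw [hx]; exact ht'
    exact hlift' _ _ hU ⟨x, hx'⟩
  refine ⟨⟨W, hWo⟩, hWc, ?_, ?_⟩
  · refine ι_comp_eq_of_forall _ _ _ fun x hx => ?_
    obtain ⟨U, htU, hU⟩ := key (p x) hx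
    exact ⟨p ⁻¹ᵁ U, htU, hU⟩
  · rintro T σ hσ _ ⟨τ, rfl⟩
    refine (hmem _).mpr fun x hx => ?_
    obtain ⟨z, hz, -⟩ := Scheme.Pullback.exists_preimage_pullback (f := p) (g := σ) x τ hx
    rw [← hz]
    exact hlift' _ _ hσ z

/-- The rigidity lemma over a connected base. -/
theorem eq_of_connected {X S Y : Scheme.{u}} [PreconnectedSpace S] (p : X ⟶ S)
    (hc : IsClosedMap p) (ho : IsOpenMap p)
    (hp : ∀ V : S.Opens, IsIso (p.app V)) (e : S ⟶ X) (he : e ≫ p = 𝟙 S)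
    (q : Y ⟶ S) [IsSeparated q] (h : X ⟶ Y) (hq : h ≫ q = p) (T : Scheme.{u}) [Nonempty T]
    (σ : T ⟶ S) (hσ : pullback.fst p σ ≫ h = pullback.fst p σ ≫ p ≫ e ≫ h) :
    h = p ≫ e ≫ h := by
  obtain ⟨W, hWc, hW, hT⟩ := exists_clopen p hc ho hp e he q h hq
  obtain ⟨t⟩ := ‹Nonempty T›
  have hne : (W : Set S).Nonempty := ⟨σ t, hT T σ hσ ⟨t, rfl⟩⟩
  have huniv : (W : Set S) = Set.univ := IsClopen.eq_univ ⟨hWc, W.isOpen⟩ hne
  have : W = ⊤ := by ext1; exact huniv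
  subst this
  rw [← cancel_epi X.topIso.hom]
  exact hW

end K449.Rigid2
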