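import Groth.Agent.AbSch.K449.FibVan
import Groth.Agent.Pic13.H952.FibrePt
import Groth.Agent.Ega3B.LocFree
import Groth.Agent.FormalB.ModPowAff2
import Groth.Agent.Ega3B.RpushAff
import Groth.Agent.Fga.HShift
import Groth.Agent.S0030

/-!
# Invertible modules with vanishing higher cohomology on the fibres

`f : X ⟶ S` proper, flat and locally of finite presentation, `S` arbitrary, `L` an invertible module
on `X` with `H^p(X_s, L_s) = 0` for all `p ≥ 1`, `s`: then `R^p f_* L = 0` for `p ≥ 1` and `f_* L` is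
finite locally free.
-/

set_option autoImplicit false
universe u

open CategoryTheory CategoryTheory.Limits AlgebraicGeometry Opposite TopologicalSpace

namespace K449.FibVan2

open Groth.Agent

/-- A quasi-coherent module with finite projective sections over affine opens is finite locally free. -/
theorem isFinLocFree_of_sections {S : Scheme.{u}} (M : S.Modules) (hM : Coh.IsQCoh M)
    (h : ∀ (V : S.Opens), IsAffineOpen V → Module.Finite Γ(S, V) Γ(M, V) ∧ Module.Projective Γ(S, V) Γ(M, V)) :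
    FlatMod.IsFinLocFree M := by
  intro x
  obtain ⟨V, hV, hxV, -⟩ := exists_isAffineOpen_mem_and_subset (x := x) (U := ⊤) trivial
  obtain ⟨h1, h2⟩ := h V hV
  have : Module.FinitePresentation Γ(S, V) Γ(M, V) := Module.finitePresentation_of_projective _ _
  have := hM
  obtain ⟨U, hxU, -, e⟩ := Ega3B.LocFree.exists_restrict_iso_freeMod M hV ⟨x, hxV⟩
  exact ⟨U, _, hxU, e⟩

/-- A quasi-coherent module with zero sections over affine opens is zero. -/
theorem isZero_of_sections {S : Scheme.{u}} (M : S.Modules) (hM : Coh.IsQCoh M)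
    (h : ∀ (V : S.Opens), IsAffineOpen V → Subsingleton Γ(M, V)) : IsZero M := by
  refine FormalB.ModPowAff2.isZero_of_affine_cover hM fun x => ?_
  obtain ⟨V, hV, hxV, -⟩ := exists_isAffineOpen_mem_and_subset (x := x) (U := ⊤) trivial
  have := h V hV
  exact ⟨V, hxV, hV, fun m => Subsingleton.elim _ _⟩

section

variable {X S : Scheme.{u}} (f : X ⟶ S) {V : S.Opens} (hV : IsAffineOpen V)

theorem isPullback_affine :
    IsPullback (f ⁻¹ᵁ V).ι ((f ∣_ V) ≫ hV.isoSpec.hom) f hV.fromSpec := by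
  have h1 : IsPullback (f ⁻¹ᵁ V).ι (f ∣_ V) f V.ι := (isPullback_morphismRestrict f V).flip
  refine h1.of_iso (Iso.refl _) (Iso.refl _) hV.isoSpec (Iso.refl _) ?_ ?_ ?_ ?_
  · simp
  · simp
  · simp
  · simp

end

theorem isInvertible_restrict {X Y : Scheme.{u}} {L : X.Modules} (hL : PicF.IsInvertible L)
    (j : Y ⟶ X) [IsOpenImmersion j] : PicF.IsInvertible (L.restrict j) := by
  have h1 := Fdesc.LocGen.isInvertible_pullback j hL
  rw [Fdesc.LocGen.isInvertible_iff] at h1 ⊢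
  intro x
  obtain ⟨U, e, hx, he⟩ := h1 x
  exact ⟨U, _, hx, he.app ((Scheme.Modules.restrictFunctorIsoPullback j).symm.app L).hom⟩

/-- The global statement. -/
theorem main {X S : Scheme.{u}} (f : X ⟶ S) [IsProper f] [Flat f] [LocallyOfFinitePresentation f]
    (L : X.Modules) (hL : PicF.IsInvertible L) [HasInjectiveResolutions X.Modules]
    (h : ∀ (s : S) (p : ℕ), 1 ≤ p → Subsingleton (CohIII.fiberH f L s p)) :
    (∀ p : ℕ, 1 ≤ p → IsZero ((Coh.Rpush f p).obj L)) ∧
      FlatMod.IsFinLocFree ((Coh.push f).obj L) := by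
  have hq : Coh.IsQCoh L := Ega2.QCohLocal.isQCoh_of_isInvertible hL
  have hQ : ∀ p, Coh.IsQCoh ((Coh.Rpush f p).obj L) := fun p => S0030.result f L p
  have key : ∀ (V : S.Opens) (hV : IsAffineOpen V),
      (∀ p : ℕ, 1 ≤ p → Subsingleton Γ((Coh.Rpush f p).obj L, V)) ∧
      Module.Finite Γ(S, V) Γ((Coh.Rpush f 0).obj L, V) ∧
      Module.Projective Γ(S, V) Γ((Coh.Rpush f 0).obj L, V) := by
    intro V hV
    let iO : (f ⁻¹ᵁ V).toScheme.Over (Spec (CommRingCat.of Γ(S, V))) := ⟨(f ∣_ V) ≫ hV.isoSpec.hom⟩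
    have i1 : IsProper ((f ⁻¹ᵁ V).toScheme ↘ Spec (CommRingCat.of Γ(S, V))) :=
      inferInstanceAs (IsProper ((f ∣_ V) ≫ hV.isoSpec.hom))
    have i2 : Flat ((f ⁻¹ᵁ V).toScheme ↘ Spec (CommRingCat.of Γ(S, V))) :=
      inferInstanceAs (Flat ((f ∣_ V) ≫ hV.isoSpec.hom))
    have i3 : LocallyOfFinitePresentation ((f ⁻¹ᵁ V).toScheme ↘ Spec (CommRingCat.of Γ(S, V))) :=
      inferInstanceAs (LocallyOfFinitePresentation ((f ∣_ V) ≫ hV.isoSpec.hom))
    have hLV : PicF.IsInvertible (L.restrict (f ⁻¹ᵁ V).ι) := isInvertible_restrict hL _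
    obtain ⟨k1, k2, k3⟩ := K449.FibVan.affine Γ(S, V) (f ⁻¹ᵁ V).toScheme
      (L.restrict (f ⁻¹ᵁ V).ι) hLV (by
        intro m hm Y iY j H p hp
        let _ : Field (Γ(S, V) ⧸ m) := Ideal.Quotient.field m
        have H' := H.paste_horiz (isPullback_affine f hV)
        let y : S := (Spec.map (CommRingCat.ofHom (Ideal.Quotient.mk m)) ≫ hV.fromSpec)
          (IsLocalRing.closedPoint (Γ(S, V) ⧸ m))
        have h1 := Pic13.H952.FibrePt.subsingleton_HH f
          (Spec.map (CommRingCat.ofHom (Ideal.Quotient.mk m)) ≫ hV.fromSpec)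
          (j ≫ (f ⁻¹ᵁ V).ι) H' y ⟨_, rfl⟩ L hq p (h y p hp)
        refine Fga.HShift.subsingleton_of_iso ?_ p h1
        exact (Scheme.Modules.pullbackComp j (f ⁻¹ᵁ V).ι).symm.app L ≪≫
          (Scheme.Modules.pullback j).mapIso
            ((Scheme.Modules.restrictFunctorIsoPullback (f ⁻¹ᵁ V).ι).symm.app L))
    refine ⟨fun p hp => ?_, ?_⟩
    · obtain ⟨e⟩ := Ega3B.RpushAff.exists_linearEquiv f L hq hV p
      have := k1 p hp
      exact e.toEquiv.subsingleton
    · obtain ⟨e⟩ := Ega3B.RpushAff.exists_linearEquiv f L hq hV 0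
      exact ⟨Module.Finite.equiv e.symm, Module.Projective.of_equiv e.symm⟩
  refine ⟨fun p hp => isZero_of_sections _ (hQ p) fun V hV => (key V hV).1 p hp, ?_⟩
  have h2 : FlatMod.IsFinLocFree ((Coh.Rpush f 0).obj L) :=
    isFinLocFree_of_sections _ (hQ 0) fun V hV => (key V hV).2
  have e : (Coh.Rpush f 0).obj L ≅ (Coh.push f).obj L :=
    (Scheme.Modules.pushforward f).rightDerivedZeroIsoSelf.app L
  intro x
  obtain ⟨U, n, hxU, ⟨i⟩⟩ := h2 x
  exact ⟨U, n, hxU, ⟨(Scheme.Modules.restrictFunctor U.ι).mapIso e.symm ≪≫ i⟩⟩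

end K449.FibVan2
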