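import Groth.Agent.Grpsch.CubeTriv
import Groth.Agent.Grpsch.PicGrp
import Groth.Agent.AbSch.K449.Basic
import Mathlib.CategoryTheory.Monoidal.Cartesian.Over
import Mathlib.CategoryTheory.Monoidal.Cartesian.Grp

/-!
# The theorem of the cube for abelian schemes over an arbitrary base, in the Picard group
-/

set_option autoImplicit false
universe u

open CategoryTheory Limits MonoidalCategory CartesianMonoidalCategory AlgebraicGeometry
open scoped MonObj

namespace K449.Cube

open Groth.Agent.Grpsch.PicGrp Groth.Agent.Grpsch.CubeData Groth.Agent.Grpsch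
open Groth.Agent.Fdesc Groth.Agent.Fdesc.LocGen

/-- The theorem of the cube over a base which need not be connected: the locus of triviality is
open and closed and the module is trivial if this locus is everything. -/
theorem exists_clopen {S : Scheme.{u}} {D : Data S} (h : D.Good) (L : D.P.Modules)
    (hL : PicF.IsInvertible L)
    (hs : Triv ((Scheme.Modules.pullback D.s).obj L))
    (hs' : Triv ((Scheme.Modules.pullback D.s').obj L)) :
    ∃ W : Set S, IsClopen W ∧ (∀ (T : Scheme.{u}) (a : T ⟶ S),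
      Triv ((Scheme.Modules.pullback (pullback.fst D.p a)).obj L) → Set.range a ⊆ W) ∧
      (W = Set.univ → Triv L) := by
  have := h.flat
  have := h.proper
  have := h.lfp
  have := h.gi
  obtain ⟨W, j, hj1, hj2, hj⟩ := Groth.Agent.S1431.result D.p
    (fun T g U => isIso_app (pullback.snd D.p g) U) L
    (CubeClosed.isFinLocFree_of_isInvertible hL)
  have key : ∀ (T : Scheme.{u}) (a : T ⟶ S), (∃ g', g' ≫ j = a) ↔
      Triv ((Scheme.Modules.pullback (pullback.fst D.p a)).obj L) :=
    fun T a => (hj T a).trans (D.exists_iff_triv a L hs)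
  have hopen : IsOpenImmersion j :=
    CubeOpen2.isOpenImmersion_of_lift j (fun z I₁ t ht htm hmt hg => (key _ _).mpr
      (h.triv_of_quot L hL hs hs' (S.presheaf.stalk z) (S.fromSpecStalk z) I₁ t ht htm hmt
        ((key _ _).mp hg)))
  have hrange : Set.range j = {z : S | Nonempty
      ((Scheme.Modules.pullback (D.p.fiberι z)).obj L ≅ Coh.structureModule (D.p.fiber z))} := by
    ext z
    have h1 := key _ (S.fromSpecResidueField z)
    constructor
    · rintro ⟨w, rfl⟩
      have h2 : Set.range (S.fromSpecResidueField (j w)) ⊆ Set.range j := by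
        rw [Scheme.range_fromSpecResidueField]
        rintro _ rfl
        exact ⟨w, rfl⟩
      exact h1.mp ⟨IsOpenImmersion.lift j _ h2, IsOpenImmersion.lift_fac j _ h2⟩
    · intro hz
      obtain ⟨g', hg'⟩ := h1.mpr hz
      obtain ⟨pt⟩ : Nonempty (Spec (S.residueField z)) := inferInstance
      refine ⟨g' pt, ?_⟩
      rw [← Scheme.Hom.comp_apply, hg', Scheme.fromSpecResidueField_apply]
  have hclosed : IsClosed (Set.range j) := by
    rw [hrange]
    exact CubeClosed.isClosed_trivialLocus D.p L hL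
  refine ⟨Set.range j, ⟨hclosed, j.isOpenEmbedding.isOpen_range⟩, ?_, ?_⟩
  · intro T a ha
    obtain ⟨g', rfl⟩ := (key T a).mpr ha
    rintro _ ⟨t, rfl⟩
    exact ⟨g' t, by rw [Scheme.Hom.comp_apply]⟩
  · intro huniv
    have hsurj : Surjective j := ⟨Set.range_eq_univ.mp huniv⟩
    have hiso : IsIso j := isIso_of_surj j
    exact triv_of_pullback_iso (pullback.fst D.p (𝟙 S))
      ((key S (𝟙 S)).mp ⟨inv j, IsIso.inv_hom_id j⟩)

variable {S : Scheme.{u}} {A : Over S} [GrpObj A]

/-- pullback of a class along a point with values in `T`. -/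
noncomputable abbrev pl {T A : Over S} (a : T ⟶ A) : Pic A.left →* Pic T.left := pull a.left

theorem pl_comp {T T' A : Over S} (f : T' ⟶ T) (a : T ⟶ A) (L : Pic A.left) :
    pl (f ≫ a) L = pl f (pl a L) := by
  unfold pl
  rw [Over.comp_left, pull_comp]

/-- The cube expression. -/
noncomputable def cubeExpr {T : Over S} (a b c : T ⟶ A) (L : Pic A.left) : Pic T.left :=
  (pl (a * b * c) L * pl a L * pl b L * pl c L) *
    (pl (a * b) L * pl (a * c) L * pl (b * c) L * pl 1 L)⁻¹

theorem cubeExpr_comp {T T' : Over S} (f : T' ⟶ T) (a b c : T ⟶ A) (L : Pic A.left) :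
    pl f (cubeExpr a b c L) = cubeExpr (f ≫ a) (f ≫ b) (f ≫ c) L := by
  simp only [cubeExpr, map_mul, map_inv, ← pl_comp, MonObj.comp_mul, MonObj.comp_one]

theorem cubeExpr_one_left {T : Over S} (b c : T ⟶ A) (L : Pic A.left) :
    cubeExpr 1 b c L = 1 := by
  rw [cubeExpr, one_mul, one_mul, mul_inv_eq_one]
  ac_rfl

theorem cubeExpr_one_mid {T : Over S} (a c : T ⟶ A) (L : Pic A.left) :
    cubeExpr a 1 c L = 1 := by
  rw [cubeExpr, one_mul, mul_one, mul_inv_eq_one]
  ac_rfl

theorem cubeExpr_one_right {T : Over S} (a b : T ⟶ A) (L : Pic A.left) :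
    cubeExpr a b 1 L = 1 := by
  rw [cubeExpr, mul_one, mul_one, mul_one, mul_inv_eq_one]

/-- The identity section as a morphism of schemes. -/
noncomputable def e₀ (A : Over S) [GrpObj A] : S ⟶ A.left := η[A].left

@[reassoc (attr := simp)]
theorem e₀_hom : e₀ A ≫ A.hom = 𝟙 _ := Over.w η[A]

theorem eq_one_of_left {T : Over S} (g : T ⟶ A)
    (h : g.left = T.hom ≫ e₀ A) : g = 1 := by
  have h1 : (1 : T ⟶ A) = toUnit T ≫ η[A] := rfl
  rw [h1]
  ext1
  rw [h]
  rfl

theorem key_aux {W P : Scheme.{u}} {φ : W ⟶ P} {a : P ⟶ A.left} {t : P ⟶ S}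
    (ht : t = a ≫ A.hom) {v : W ⟶ S} (h : φ ≫ a = v ≫ e₀ A) : φ ≫ a = φ ≫ t ≫ e₀ A := by
  rw [ht, Category.assoc, ← Category.assoc, h, Category.assoc v, e₀_hom_assoc]

theorem one_left {T : Over S} : (1 : T ⟶ A).left = T.hom ≫ e₀ A := rfl

section

variable (A)

/-- The triple product, in the form used by the theorem of the cube. -/
noncomputable abbrev T0 : Over S :=
  Over.mk (pullback.fst (pullback.fst A.hom A.hom ≫ A.hom) A.hom ≫ pullback.fst A.hom A.hom ≫ A.hom)

/-- first projection -/
noncomputable def p1 : T0 A ⟶ A :=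
  Over.homMk (pullback.fst (pullback.fst A.hom A.hom ≫ A.hom) A.hom ≫ pullback.fst A.hom A.hom)
    (by simp)

/-- second projection -/
noncomputable def p2 : T0 A ⟶ A :=
  Over.homMk (pullback.fst (pullback.fst A.hom A.hom ≫ A.hom) A.hom ≫ pullback.snd A.hom A.hom)
    (by simp [pullback.condition])

/-- third projection -/
noncomputable def p3 : T0 A ⟶ A :=
  Over.homMk (pullback.snd (pullback.fst A.hom A.hom ≫ A.hom) A.hom)
    pullback.condition.symm

/-- The two-fold product with its two sections. -/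
noncomputable def D0 : Data S where
  X := A.left
  Y := A.left
  P := pullback A.hom A.hom
  q₁ := pullback.fst _ _
  q₂ := pullback.snd _ _
  pX := A.hom
  pY := A.hom
  H := .of_hasPullback _ _
  x := e₀ A
  y := e₀ A
  hx := e₀_hom
  hy := e₀_hom
  s := pullback.lift (A.hom ≫ e₀ A) (𝟙 _) (by simp)
  s' := pullback.lift (𝟙 _) (A.hom ≫ e₀ A) (by simp)
  hs₁ := pullback.lift_fst _ _ _
  hs₂ := pullback.lift_snd _ _ _
  hs'₁ := pullback.lift_fst _ _ _
  hs'₂ := pullback.lift_snd _ _ _

end

theorem cubeExpr_T0 [IsProper A.hom] [Flat A.hom] [LocallyOfFinitePresentation A.hom]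
    [GeometricallyIntegral A.hom] (L : Pic A.left) :
    cubeExpr (p1 A) (p2 A) (p3 A) L = 1 := by
  obtain ⟨M, hM, hMe⟩ := exists_mk (cubeExpr (p1 A) (p2 A) (p3 A) L)
  rw [hMe, mk_eq_one_iff hM]
  have key : ∀ (W : Scheme.{u}) (φ : W ⟶ (T0 A).left),
      ((φ ≫ (p1 A).left = φ ≫ (T0 A).hom ≫ e₀ A) ∨ (φ ≫ (p2 A).left = φ ≫ (T0 A).hom ≫ e₀ A) ∨
        (φ ≫ (p3 A).left = φ ≫ (T0 A).hom ≫ e₀ A)) →
      Triv ((Scheme.Modules.pullback φ).obj M) := by
    intro W φ h
    rw [Triv, ← mk_eq_one_iff (Groth.Agent.Fdesc.LocGen.isInvertible_pullback φ hM),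
      ← pull_mk φ hM, ← hMe]
    let f : Over.mk (φ ≫ (T0 A).hom) ⟶ T0 A := Over.homMk φ rfl
    change pl f (cubeExpr (p1 A) (p2 A) (p3 A) L) = 1
    rw [cubeExpr_comp]
    rcases h with h | h | h
    · have h1 : f ≫ p1 A = 1 := eq_one_of_left _ (h.trans (Category.assoc _ _ _).symm)
      rw [h1, cubeExpr_one_left]
    · have h1 : f ≫ p2 A = 1 := eq_one_of_left _ (h.trans (Category.assoc _ _ _).symm)
      rw [h1, cubeExpr_one_mid]
    · have h1 : f ≫ p3 A = 1 := eq_one_of_left _ (h.trans (Category.assoc _ _ _).symm)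
      rw [h1, cubeExpr_one_right]
  have hgood : (D0 A).Good := ⟨‹_›, ‹_›, ‹_›, ‹_›, ‹_›, ‹_›, ‹_›, ‹_›⟩
  have hT1 : (T0 A).hom = (p1 A).left ≫ A.hom := (Over.w (p1 A)).symm
  have hT2 : (T0 A).hom = (p2 A).left ≫ A.hom := (Over.w (p2 A)).symm
  have hT3 : (T0 A).hom = (p3 A).left ≫ A.hom := (Over.w (p3 A)).symm
  obtain ⟨W, hW1, hW2, hW3⟩ := exists_clopen (hgood.baseChange A.hom) M hM
    (key _ ((D0 A).bs A.hom) (Or.inl (key_aux hT1 (v := pullback.fst A.hom A.hom ≫ A.hom) (by
      have := (D0 A).bs_fst_assoc A.hom (D0 A).q₁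
      refine this.trans ?_
      rw [(D0 A).hs₁]
      exact (Category.assoc _ _ _).symm))))
    (key _ ((D0 A).bs' A.hom) (Or.inr (Or.inl (key_aux hT2
      (v := pullback.fst A.hom A.hom ≫ A.hom) (by
      have := (D0 A).bs'_fst_assoc A.hom (D0 A).q₂
      refine this.trans ?_
      rw [(D0 A).hs'₂]
      exact (Category.assoc _ _ _).symm)))))
  have hrange : Set.range (e₀ A) ⊆ W := by
    refine hW2 S (e₀ A) ?_
    exact key _ (pullback.fst ((D0 A).baseChange A.hom).p (e₀ A)) (Or.inr (Or.inr (key_aux hT3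
      (v := pullback.snd ((D0 A).baseChange A.hom).p (e₀ A)) (by
        have h1 := pullback.condition (f := ((D0 A).baseChange A.hom).p) (g := e₀ A)
        refine Eq.trans ?_ h1
        congr 1
        exact ((D0 A).bq₁_snd A.hom).symm))))
  refine hW3 ?_
  -- the fibres of `A` are connected
  rw [Set.eq_univ_iff_forall]
  intro x
  have h1 : _root_.IsConnected (A.hom ⁻¹' {A.hom x}) := by
    rw [← A.hom.range_fiberι, ← Set.image_univ]
    exact (IrreducibleSpace.isIrreducible_univ (A.hom.fiber (A.hom x))).isConnected.image _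
      (A.hom.fiberι _).continuous.continuousOn
  have h2 := h1.isPreconnected.subset_isClopen hW1
    ⟨e₀ A (A.hom x), by
      change A.hom (e₀ A (A.hom x)) = A.hom x
      rw [← Scheme.Hom.comp_apply, e₀_hom]
      rfl, hrange ⟨_, rfl⟩⟩
  exact h2 rfl

/-- **Theorem of the cube** for abelian schemes, on points. -/
theorem cubeExpr_eq_one_of_geometricallyIntegral [IsProper A.hom] [Flat A.hom]
    [LocallyOfFinitePresentation A.hom] [GeometricallyIntegral A.hom] (L : Pic A.left)
    {T : Over S} (a b c : T ⟶ A) : cubeExpr a b c L = 1 := by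
  have w1 : a.left ≫ A.hom = b.left ≫ A.hom := by rw [Over.w, Over.w]
  have w2 : pullback.lift a.left b.left w1 ≫ pullback.fst A.hom A.hom ≫ A.hom = c.left ≫ A.hom := by
    rw [pullback.lift_fst_assoc, Over.w, Over.w]
  let f : T ⟶ T0 A := Over.homMk (pullback.lift (pullback.lift a.left b.left w1) c.left w2) (by
    change _ ≫ pullback.fst (pullback.fst A.hom A.hom ≫ A.hom) A.hom ≫
      pullback.fst A.hom A.hom ≫ A.hom = _
    rw [pullback.lift_fst_assoc, pullback.lift_fst_assoc, Over.w])
  have ha : f ≫ p1 A = a := by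
    ext1
    change pullback.lift _ _ _ ≫ pullback.fst _ _ ≫ pullback.fst _ _ = _
    rw [pullback.lift_fst_assoc, pullback.lift_fst]
  have hb : f ≫ p2 A = b := by
    ext1
    change pullback.lift _ _ _ ≫ pullback.fst _ _ ≫ pullback.snd _ _ = _
    rw [pullback.lift_fst_assoc, pullback.lift_snd]
  have hc : f ≫ p3 A = c := by
    ext1
    change pullback.lift _ _ _ ≫ pullback.snd _ _ = _
    rw [pullback.lift_snd]
  have := cubeExpr_comp f (p1 A) (p2 A) (p3 A) L
  rw [cubeExpr_T0, map_one, ha, hb, hc] at this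
  exact this.symm

section

variable [IsProper A.hom] [Flat A.hom] [LocallyOfFinitePresentation A.hom]
  [GeometricallyReduced A.hom] [GeometricallyConnected A.hom]

/-- **Theorem of the cube** for abelian schemes, on points. -/
theorem cubeExpr_eq_one (L : Pic A.left) {T : Over S} (a b c : T ⟶ A) : cubeExpr a b c L = 1 := by
  have := K449.Basic.geometricallyIntegral A
  exact cubeExpr_eq_one_of_geometricallyIntegral L a b c

/-- **Theorem of the cube** for abelian schemes, on points. -/
theorem cube (L : Pic A.left) {T : Over S} (a b c : T ⟶ A) :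
    pl (a * b * c) L * pl a L * pl b L * pl c L =
      pl (a * b) L * pl (a * c) L * pl (b * c) L * pl 1 L := by
  have := cubeExpr_eq_one L a b c
  rwa [cubeExpr, mul_inv_eq_one] at this

end

end K449.Cube
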