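import Groth.Agent.AbSch.K449.Rigid

/-!
# Morphisms to affine `S`-schemes factor through `S`
-/

set_option autoImplicit false
universe u

open CategoryTheory Limits AlgebraicGeometry

namespace K449.AffFac

/-- If `O_S = p_* O_X` and `e` is a section of `p`, then every `S`-morphism from `X` to a scheme
affine over `S` is `p ≫ e ≫ d`. -/
theorem eq_of_isAffineHom {X S K : Scheme.{u}} (p : X ⟶ S) (hp : ∀ V : S.Opens, IsIso (p.app V))
    (e : S ⟶ X) (he : e ≫ p = 𝟙 S) (q : K ⟶ S) [IsAffineHom q] (d : X ⟶ K) (hd : d ≫ q = p) :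
    d = p ≫ e ≫ d := by
  suffices h : (⊤ : X.Opens).ι ≫ d = (⊤ : X.Opens).ι ≫ p ≫ e ≫ d by
    rwa [← cancel_epi X.topIso.hom]
  refine Rigid.ι_comp_eq_of_forall _ _ _ fun x _ => ?_
  obtain ⟨_, ⟨U, hU, rfl⟩, hxU, -⟩ := S.isBasis_affineOpens.exists_subset_of_mem_open
    (Set.mem_univ (p x)) isOpen_univ
  refine ⟨p ⁻¹ᵁ U, hxU, ?_⟩
  have hle : U ≤ e ⁻¹ᵁ (p ⁻¹ᵁ U) := by
    intro x hx
    change p (e x) ∈ U
    rw [← Scheme.Hom.comp_apply, he]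
    exact hx
  have hle' : p ⁻¹ᵁ U ≤ d ⁻¹ᵁ (q ⁻¹ᵁ U) := by
    rw [← Scheme.Hom.comp_preimage, hd]
  have : IsAffine (q ⁻¹ᵁ U) := IsAffineHom.isAffine_preimage _ hU
  have : IsIso (p ∣_ U).appTop := by
    rw [morphismRestrict_appTop]
    have h0 := hp (Scheme.Opens.ι U ''ᵁ ⊤)
    refine @IsIso.comp_isIso _ _ _ _ _ _ _ h0 ?_
    exact Functor.map_isIso _ _
  obtain ⟨g, hg⟩ := Rigid.exists_fac_of_isAffine (p ∣_ U) (d.resLE (q ⁻¹ᵁ U) (p ⁻¹ᵁ U) hle')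
  have h1 : e.resLE (p ⁻¹ᵁ U) U hle ≫ (p ∣_ U) = 𝟙 _ := by
    rw [← cancel_mono (Scheme.Opens.ι U), Category.assoc, morphismRestrict_ι,
      Scheme.Hom.resLE_comp_ι_assoc, he, Category.comp_id, Category.id_comp]
  have h2 : Scheme.Opens.ι U ≫ e ≫ d = g ≫ (q ⁻¹ᵁ U).ι := by
    rw [← Scheme.Hom.resLE_comp_ι_assoc e hle, ← Scheme.Hom.resLE_comp_ι d hle', ← hg,
      Category.assoc, reassoc_of% h1]
  rw [← morphismRestrict_ι_assoc, h2, ← Scheme.Hom.resLE_comp_ι d hle', ← hg, Category.assoc]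

end K449.AffFac
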