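import Groth.Agent.AbSch.K449.SqSec
import Groth.Agent.Fdesc.AmpleDescent

/-!
# Global generation of `O(2D)` and ampleness of divisors with affine complement on abelian varieties
-/

set_option autoImplicit false
universe u

open CategoryTheory Limits MonoidalCategory CartesianMonoidalCategory MonObj AlgebraicGeometry
open TopologicalSpace

namespace K449.AmpAb

open K449.FibTrans2 K449.SqSec Groth.Agent.Grpsch.PicGrp Groth.Agent Groth.Agent.Fdesc.LocGen
open Groth.Agent.Dix.IdealModCartier

/-- The complement of an effective Cartier divisor on an integral scheme is nonempty. -/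
theorem nonempty_compl_support {X : Scheme.{u}} [IsIntegral X] {I : X.IdealSheafData}
    (hI : BlowUp.IsEffCartierIdeal I) : ((I.support : Set X)ᶜ).Nonempty := by
  obtain ⟨x⟩ : Nonempty X := inferInstance
  obtain ⟨U, a, hxU, ha⟩ := exists_genOn hI x
  have hne : Nonempty (U.1 : X.Opens) := ⟨⟨x, hxU⟩⟩
  have h1 := ha U le_rfl
  rw [ores_refl] at h1
  have h2 : a ≠ 0 := nonZeroDivisors.ne_zero h1.1
  have h3 : X.basicOpen a ≠ ⊥ := fun h => h2 (basicOpen_eq_bot_iff a |>.mp h)
  obtain ⟨y, hy⟩ : ((X.basicOpen a : X.Opens) : Set X).Nonempty := by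
    rw [Set.nonempty_iff_ne_empty]
    intro h
    exact h3 (SetLike.coe_injective h)
  refine ⟨y, fun hyI => ?_⟩
  have h6 := I.coe_support_inter U
  have h7 : y ∈ (I.support : Set X) ∩ U.1 := ⟨hyI, X.basicOpen_le a hy⟩
  rw [h6, h1.2, Scheme.zeroLocus_span, Scheme.zeroLocus_singleton] at h7
  exact h7.1 hy

variable {k : Type u} [Field k]

theorem isIso_tr {G : Over (Spec (CommRingCat.of k))} [GrpObj G]
    (a : 𝟙_ (Over (Spec (CommRingCat.of k))) ⟶ G) : IsIso (tr a).left := by
  have h1 : IsIso (tr a) := by
    refine ⟨tr a⁻¹, ?_, ?_⟩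
    · rw [tr_tr, inv_mul_cancel, tr_one]
    · rw [tr_tr, mul_inv_cancel, tr_one]
  exact inferInstanceAs (IsIso ((Over.forget _).map (tr a)))

/-- Over an algebraically closed field the square of an invertible module with a nonzero section
is globally generated. -/
theorem isGloballyGenerated [IsAlgClosed k] {G : Over (Spec (CommRingCat.of k))} [GrpObj G]
    [IsProper G.hom] [GeometricallyIntegral G.hom] {L : G.left.Modules} (hL : PicF.IsInvertible L)
    (s : Coh.structureModule G.left ⟶ L) (hs : (CohB1.genLocus L s : Set G.left).Nonempty) :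
    Curv2.IsGloballyGenerated (CohB1.tensorMod L L) := by
  have h := fun y => exists_section_mem hL s hs (CohB1.tensorMod L L)
    (isInvertible_tensorMod hL hL) (mk_mul_mk hL hL).symm y
  choose a t ht ht' using h
  exact VarietyA.Dim1GlobGen.isGloballyGenerated t fun x => ⟨x, ht x⟩

/-- Over an algebraically closed field an invertible module with a section whose non-vanishing
locus is affine and nonempty is ample. -/
theorem isAmple_algClosed [IsAlgClosed k] {G : Over (Spec (CommRingCat.of k))} [GrpObj G]
    [IsProper G.hom] [GeometricallyIntegral G.hom] {L : G.left.Modules} (hL : PicF.IsInvertible L)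
    (s : Coh.structureModule G.left ⟶ L) (hs : (CohB1.genLocus L s : Set G.left).Nonempty)
    (ha : IsAffineOpen (CohB1.genLocus L s)) : CohB1.IsAmple L := by
  have hsep : G.left.IsSeparated := ⟨by
    have : IsSeparated (G.hom ≫ terminal.from _) := inferInstance
    rwa [terminal.comp_from] at this⟩
  refine ⟨hL, QuasiCompact.compactSpace_of_compactSpace G.hom, fun x => ⟨1, ?_⟩⟩
  obtain ⟨a, t, hxt, ht⟩ := exists_section_mem hL s hs (CohB1.tensorPow L (1 + 1))
    (isInvertible_tensorPow hL _) (by rw [mk_tensorPow, pow_succ, pow_one]) x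
  refine ⟨t, hxt, ?_⟩
  have h1 := isIso_tr a
  have h2 := isIso_tr a⁻¹
  rw [ht]
  exact (ha.preimage (tr a).left).inf (ha.preimage (tr a⁻¹).left)

/-- An invertible module on an abelian variety with a section whose non-vanishing locus is affine
and nonempty is ample. -/
theorem isAmple {G : Over (Spec (CommRingCat.of k))} [GrpObj G]
    [IsProper G.hom] [GeometricallyIntegral G.hom] {L : G.left.Modules} (hL : PicF.IsInvertible L)
    (s : Coh.structureModule G.left ⟶ L) (hs : (CohB1.genLocus L s : Set G.left).Nonempty)
    (ha : IsAffineOpen (CohB1.genLocus L s)) : CohB1.IsAmple L := by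
  let K := AlgebraicClosure k
  let t : Spec (CommRingCat.of K) ⟶ Spec (CommRingCat.of k) :=
    Spec.map (CommRingCat.ofHom (algebraMap k K))
  let G' := (Over.pullback t).obj G
  let : GrpObj G' := Functor.grpObjObj
  have i1 : IsProper G'.hom := inferInstanceAs (IsProper (pullback.snd G.hom t))
  have i2 : GeometricallyIntegral G'.hom :=
    inferInstanceAs (GeometricallyIntegral (pullback.snd G.hom t))
  have i3 : Surjective t := inferInstance
  have i4 : Flat t := inferInstance
  let a : G'.left ⟶ G.left := pullback.fst G.hom t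
  have i5 : Surjective a := inferInstanceAs (Surjective (pullback.fst G.hom t))
  have i7 : IsAffineHom t := inferInstance
  have i6 : IsAffineHom a := MorphismProperty.pullback_fst G.hom t i7
  refine Fdesc.AmpleDescent.isAmple_of_isPullback G.hom t a (pullback.snd G.hom t)
    (IsPullback.of_hasPullback G.hom t) L hL ?_
  refine isAmple_algClosed (G := G') (isInvertible_pullback a hL) (Ega2.Weight.pullHom a s) ?_ ?_
  · rw [Ega2.Weight.genLocus_pullHom _ hL]
    obtain ⟨x, hx⟩ := hs
    obtain ⟨y, rfl⟩ := a.surjective x
    exact ⟨y, hx⟩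
  · rw [Ega2.Weight.genLocus_pullHom _ hL]
    exact ha.preimage a

end K449.AmpAb
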