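import Groth.Agent.Dix.IdealModCartier
import Groth.Agent.Ega2.TensMon

/-!
# The canonical section of the module of an effective Cartier divisor

If `L ⊗ I ≅ O` then `L` has a global section generating exactly off the support of `I`.
-/

set_option autoImplicit false
universe u

open CategoryTheory Limits AlgebraicGeometry TopologicalSpace

namespace K449.CanSec

open Groth.Agent Groth.Agent.Fdesc.LocGen Groth.Agent.Dix.IdealModCartier

variable {X : Scheme.{u}}

/-- The multiplication `L ⊗ I ⟶ L`. -/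
noncomputable def mulI (L : X.Modules) (I : X.IdealSheafData) :
    CohB1.tensorMod L (ClSub.idealMod I) ⟶ L :=
  Ega2.Tens.mapT (𝟙 L) (ClSub.idealModι I) ≫ (Ega2.Tens.runit L).hom

theorem mulI_tmul (L : X.Modules) (I : X.IdealSheafData) {U : X.Opens} (l : Γ(L, U))
    (g : Γ(ClSub.idealMod I, U)) : (mulI L I).app U (tmul l g) = val I g • l := by
  have h1 : (Ega2.Tens.mapT (𝟙 L) (ClSub.idealModι I)).app U (Ega2.Tens.tmul l g) =
      Ega2.Tens.tmul l ((ClSub.idealModι I).app U g) := Ega2.Tens.mapT_tmul _ _ _ _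
  have h2 : (Ega2.Tens.runit L).hom.app U (Ega2.Tens.tmul l ((ClSub.idealModι I).app U g)) =
      val I g • l := Ega2.Tens.runit_hom_tmul (val I g) l
  have h3 : (mulI L I).app U (Ega2.Tens.tmul l g) = (Ega2.Tens.runit L).hom.app U
      ((Ega2.Tens.mapT (𝟙 L) (ClSub.idealModι I)).app U (Ega2.Tens.tmul l g)) := rfl
  exact h3.trans ((congrArg _ h1).trans h2)

/-- The canonical section of `O(D)`. -/
theorem exists_section {I : X.IdealSheafData} {L : X.Modules}
    (h : ClSub.IsInverseOf L (ClSub.idealMod I)) :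
    ∃ s : Coh.structureModule X ⟶ L, (CohB1.genLocus L s : Set X) = (I.support : Set X)ᶜ := by
  have hI := isEffCartierIdeal_of_isInverseOf h
  have hL := (isInvertible_of_isInverseOf h).1
  obtain ⟨e⟩ := h
  refine ⟨e.inv ≫ mulI L I, ?_⟩
  ext x
  obtain ⟨U, a, hxU, ha⟩ := exists_genOn hI x
  obtain ⟨V, l, hxV, hl⟩ := (isInvertible_iff L).mp hL x
  obtain ⟨W, hxW, hW⟩ := exists_affine_mem_le (U.1 ⊓ V) x ⟨hxU, hxV⟩
  have ha' := ha.res (hW.trans inf_le_left)
  have hl' := hl.res (hW.trans inf_le_right)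
  obtain ⟨g, hg⟩ := exists_val_eq I W (a := ores (hW.trans inf_le_left) a) (by
    have := (ha' W le_rfl).2
    rw [ores_refl] at this
    rw [this]
    exact Ideal.mem_span_singleton_self _)
  have hgen : IsGen g := isGen_of_genOn (by rw [hg]; exact ha')
  have hτ : IsGen (sec e.inv W.1) := (isGen_one W.1).app e.inv
  obtain ⟨u, hu, hu'⟩ := (hl'.tmul hgen).exists_unit hτ
  have h1 : sec (e.inv ≫ mulI L I) W.1 =
      (u * ores (hW.trans inf_le_left) a) • res L (hW.trans inf_le_right) l := by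
    rw [sec_comp, hu', Scheme.Modules.Hom.app_smul, mulI_tmul, hg, mul_smul]
  have h2 := genLocus_inf_eq _ hl' h1
  have h3 : x ∈ CohB1.genLocus L (e.inv ≫ mulI L I) ↔
      x ∈ X.basicOpen (ores (hW.trans inf_le_left) a) := by
    have h4 : X.basicOpen (u * ores (hW.trans inf_le_left) a) =
        X.basicOpen (ores (hW.trans inf_le_left) a) := by
      rw [Scheme.basicOpen_mul, Scheme.basicOpen_of_isUnit _ hu]
      exact inf_eq_right.mpr (X.basicOpen_le _)
    rw [h4] at h2
    rw [← h2]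
    exact ⟨fun h => ⟨h, hxW⟩, fun h => h.1⟩
  have h5 : x ∈ (I.support : Set X) ↔ x ∉ X.basicOpen (ores (hW.trans inf_le_left) a) := by
    have h6 := I.coe_support_inter W
    have h7 : x ∈ (I.support : Set X) ↔ x ∈ (I.support : Set X) ∩ W.1 :=
      ⟨fun h => ⟨h, hxW⟩, fun h => h.1⟩
    have h8 := (ha' W le_rfl).2
    rw [ores_refl] at h8
    rw [h7, h6, h8, Scheme.zeroLocus_span, Scheme.zeroLocus_singleton]
    exact ⟨fun h => h.1, fun h => ⟨h, hxW⟩⟩
  change x ∈ CohB1.genLocus L (e.inv ≫ mulI L I) ↔ x ∉ (I.support : Set X)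
  rw [h3, h5, not_not]

end K449.CanSec
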