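import Groth.Agent.S1532
import Groth.Agent.S1536
import Groth.Agent.CurvesC.CurveCoh
import Groth.Agent.VarietyA.RegSmoothSch
import Groth.Agent.CalgA.RegBasic
import Groth.Agent.Ega1.GenPts
import Groth.Agent.Flat2B.SmoothGeom
import Groth.Agent.Dix.IdealModCartier
import Groth.Agent.Models3.H44.QuotTop
import Groth.Agent.Ega2.TensMon
import Groth.Agent.Fga.HShift

/-!
# Vanishing of `H^1` for invertible modules of large degree on smooth proper curves over a field
-/

set_option autoImplicit false
universe u

open CategoryTheory CategoryTheory.Limits AlgebraicGeometry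

namespace K449.CurveVan

open Groth.Agent Groth.Agent.Dix.IdealModCartier

/-- A connected scheme smooth over a field is integral. -/
theorem isIntegral {k : Type u} [Field k] {X : Scheme.{u}} (g : X ⟶ Spec (CommRingCat.of k))
    [Smooth g] [ConnectedSpace X] : IsIntegral X := by
  have : IsLocallyNoetherian X := LocallyOfFiniteType.isLocallyNoetherian g
  refine (Ega1.GenPts.isIntegral_iff X).2 ⟨inferInstance, fun x => ?_⟩
  have hx : x ∈ g.smoothLocus := by
    rw [g.smoothLocus_eq_top]
    trivial
  have := VarietyA.RegSmoothSch.isRegularLocalRing_stalk_of_mem_smoothLocus g x hx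
  exact CalgA.RegBasic.isDomain _

theorem geometricallyReduced {X Y : Scheme.{u}} (f : X ⟶ Y) [Smooth f] :
    GeometricallyReduced f := by
  refine ⟨fun K _ y Z fst snd hZ => ?_⟩
  have : Smooth snd := MorphismProperty.of_isPullback hZ inferInstance
  exact Flat2B.SmoothGeom.isReduced_of_smooth snd

/-- The ideal module of the unit ideal. -/
theorem idealMod_top {X : Scheme.{u}} :
    Nonempty (ClSub.idealMod (⊤ : X.IdealSheafData) ≅ Coh.structureModule X) := by
  obtain ⟨e⟩ := idealMod_principal (X := X) (D := ⊤) (a := 1) (by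
    intro W hW
    rw [map_one]
    refine ⟨one_mem _, ?_⟩
    rw [Ideal.span_singleton_one]
    rfl)
  exact ⟨e.symm⟩

/-- `H^1(X, L) = 0` if `deg L > 2 g - 2`. -/
theorem subsingleton_H1 (k : Type u) [Field k] (X : Scheme.{u})
    [X.Over (Spec (CommRingCat.of k))] [IsProper (X ↘ (Spec (CommRingCat.of k)))]
    [Smooth (X ↘ (Spec (CommRingCat.of k)))]
    [GeometricallyConnected (X ↘ (Spec (CommRingCat.of k)))]
    (hdim : topologicalKrullDim X = 1) (L : X.Modules) (hL : PicF.IsInvertible L)
    (hdeg : ((Module.finrank k (Coh.HH X L 0) : ℤ) - Module.finrank k (Coh.HH X L 1)) -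
      (1 - (Module.finrank k (Coh.HH X (Coh.structureModule X) 1) : ℤ)) >
      2 * (Module.finrank k (Coh.HH X (Coh.structureModule X) 1) : ℤ) - 2) :
    Subsingleton (Coh.HH X L 1) := by
  have hgr : GeometricallyReduced (X ↘ (Spec (CommRingCat.of k))) := geometricallyReduced _
  have h0 : Module.finrank k (Coh.HH X (Coh.structureModule X) 0) = 1 := S1536.result k X
  have hc : ConnectedSpace X :=
    GeometricallyConnected.connectedSpace_of_subsingleton (X ↘ (Spec (CommRingCat.of k)))
  have hint : IsIntegral X := isIntegral (X ↘ (Spec (CommRingCat.of k)))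
  have hq : Module.finrank k (Coh.HH X (ClSub.quotMod (⊤ : X.IdealSheafData)) 0) = 0 := by
    have h1 := Models3.H44.QuotTop.subsingleton_HH (X := X) 0
    rw [Scheme.IdealSheafData.one_eq_top] at h1
    exact Module.finrank_zero_of_subsingleton
  have h1 := (S1532.result k X hdim h0 L hL ⊤ (by
    have : IsEmpty ((⊤ : X.IdealSheafData).support : Set X) := by
      rw [Scheme.IdealSheafData.support_top]
      exact Set.isEmpty_coe_sort.mpr rfl
    have : IsEmpty (TopologicalSpace.IrreducibleCloseds
        ((⊤ : X.IdealSheafData).support : Set X)) :=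
      ⟨fun c => this.elim c.2.nonempty.some⟩
    unfold topologicalKrullDim
    rw [Order.krullDim_eq_bot]
    exact bot_le) (by
    rw [hq]
    have e1 : Curv2.deg k X L 1 = ((Module.finrank k (Coh.HH X L 0) : ℤ) -
        Module.finrank k (Coh.HH X L 1)) -
        (1 - (Module.finrank k (Coh.HH X (Coh.structureModule X) 1) : ℤ)) := by
      unfold Curv2.deg
      rw [CurvesC.CurveCoh.euler_eq k X hdim, CurvesC.CurveCoh.euler_eq k X hdim, h0]
      push_cast
      ring
    rw [e1]
    have e2 : (Curv2.genus k X : ℤ) =
      (Module.finrank k (Coh.HH X (Coh.structureModule X) 1) : ℤ) := rfl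
    rw [e2]
    push_cast
    linarith)).1
  obtain ⟨e⟩ := idealMod_top (X := X)
  exact Fga.HShift.subsingleton_of_iso (Ega2.Tens.mapTIso e (Iso.refl L) ≪≫ Ega2.Tens.lunit L) 1 h1

end K449.CurveVan
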