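import Groth.Agent.AbSch.K449.FibTrans2
import Groth.Agent.Sga3C.GeomRedPerf
import Groth.Agent.S3023
import Groth.Agent.Books.AlgPtsGrp

/-!
# Connected components of fibres of morphisms from abelian varieties
-/

set_option autoImplicit false
universe u

open CategoryTheory Limits MonoidalCategory CartesianMonoidalCategory MonObj AlgebraicGeometry

namespace K449.FibConn

open K449.FibTrans K449.FibTrans2

variable {k : Type u} [Field k]

/-- Rational points of a separated scheme are closed. -/
theorem isClosed_pt (Y : Over (Spec (CommRingCat.of k))) [IsSeparated Y.hom]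
    (y : 𝟙_ (Over (Spec (CommRingCat.of k))) ⟶ Y) : IsClosed ({pt y} : Set Y.left) := by
  have he : y.left ≫ Y.hom = 𝟙 _ := Over.w y
  have : IsClosedImmersion y.left := isClosedImmersion_of_comp_eq_id Y.hom y.left he
  have h1 : ({pt y} : Set Y.left) = Set.range y.left := by
    ext z
    constructor
    · rintro rfl
      exact ⟨_, rfl⟩
    · rintro ⟨t, rfl⟩
      have : t = IsLocalRing.closedPoint k := Subsingleton.elim
        (α := ↥(Spec (CommRingCat.of k))) _ _
      rw [this]
      rfl
  rw [h1]
  exact y.left.isClosedEmbedding.isClosed_range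

theorem isClosed_connectedComponentIn {X : Type*} [TopologicalSpace X] {F : Set X}
    (hF : IsClosed F) (x : X) : IsClosed (connectedComponentIn F x) := by
  by_cases hx : x ∈ F
  · refine isClosed_of_closure_subset ?_
    refine isPreconnected_connectedComponentIn.closure.subset_connectedComponentIn
      (subset_closure (mem_connectedComponentIn hx)) ?_
    exact closure_minimal (connectedComponentIn_subset F x) hF
  · rw [connectedComponentIn_eq_empty hx]
    exact isClosed_empty

/-- Closed connected subsets through a rational point give geometrically connected proper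
subschemes. -/
theorem exists_sub [PerfectField k] (X : Over (Spec (CommRingCat.of k))) [IsProper X.hom]
    (C : Set X.left) (hC : IsClosed C) (hconn : _root_.IsPreconnected C)
    (x : 𝟙_ (Over (Spec (CommRingCat.of k))) ⟶ X) (hx : pt x ∈ C) :
    ∃ (F : Over (Spec (CommRingCat.of k))) (i : F ⟶ X)
      (x' : 𝟙_ (Over (Spec (CommRingCat.of k))) ⟶ F), IsProper F.hom ∧
      GeometricallyReduced F.hom ∧ GeometricallyConnected F.hom ∧ x' ≫ i = x ∧
      Set.range i.left = C := by
  obtain ⟨W, j, hj, hW, hr⟩ := Groth.Agent.Ega43.H134.CompBound.exists_reduced_closed C hC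
  let F : Over (Spec (CommRingCat.of k)) := Over.mk (j ≫ X.hom)
  let i : F ⟶ X := Over.homMk j rfl
  have hi : IsClosedImmersion i.left := hj
  have hred : IsReduced (𝟙_ (Over (Spec (CommRingCat.of k)))).left :=
    inferInstanceAs (IsReduced (Spec (CommRingCat.of k)))
  obtain ⟨x', hx'⟩ := Groth.Agent.Books.AlgPtsGrp.exists_lift i x (by
    rintro _ ⟨t, rfl⟩
    have ht : t = IsLocalRing.closedPoint k := Subsingleton.elim
        (α := ↥(Spec (CommRingCat.of k))) _ _
    rw [ht]
    change pt x ∈ Set.range j
    rw [hr]
    exact hx)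
  have hconn' : ConnectedSpace W := by
    have e : W ≃ₜ Set.range j := j.isClosedEmbedding.isEmbedding.toHomeomorph
    have h1 : _root_.IsConnected (Set.range j) := by
      rw [hr]
      exact ⟨⟨_, hx⟩, hconn⟩
    have h2 := isConnected_iff_connectedSpace.mp h1
    exact e.symm.surjective.connectedSpace e.symm.continuous
  refine ⟨F, i, x', ?_, ?_, ?_, hx', hr⟩
  · exact inferInstanceAs (IsProper (j ≫ X.hom))
  · exact Groth.Agent.Sga3C.GeomRedPerf.geometricallyReduced_of_isReduced (j ≫ X.hom)
  · exact Groth.Agent.S3023.geometricallyConnected_of_point (j ≫ X.hom) x'.left (Over.w x')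

/-- Translates of connected components of fibres. -/
theorem image_subset [PerfectField k] (X Y : Over (Spec (CommRingCat.of k))) [GrpObj X]
    [IsProper X.hom] [ConnectedSpace X.left] [IsSeparated Y.hom] (f : X ⟶ Y)
    (x a : 𝟙_ (Over (Spec (CommRingCat.of k))) ⟶ X) :
    (tr a).left '' connectedComponentIn (f.left ⁻¹' {f.left (pt x)}) (pt x) ⊆
      connectedComponentIn (f.left ⁻¹' {f.left (pt (a * x))}) (pt (a * x)) := by
  have hy : IsClosed ({f.left (pt x)} : Set Y.left) := isClosed_pt Y (x ≫ f)
  obtain ⟨F, i, x', h1, h2, h3, h4, h5⟩ := exists_sub (k := k) X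
    (connectedComponentIn (f.left ⁻¹' {f.left (pt x)}) (pt x))
    (isClosed_connectedComponentIn (hy.preimage f.left.continuous) _)
    isPreconnected_connectedComponentIn x (mem_connectedComponentIn rfl)
  have key := apply_tr_eq X F Y i x' f (fun z => by
    rw [h4]
    have : i.left z ∈ connectedComponentIn (f.left ⁻¹' {f.left (pt x)}) (pt x) := by
      rw [← h5]
      exact ⟨z, rfl⟩
    have h6 := connectedComponentIn_subset _ _ this
    exact h6) a
  rw [h4] at key
  have hpre : _root_.IsPreconnected ((tr a).left '' connectedComponentIn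
      (f.left ⁻¹' {f.left (pt x)}) (pt x)) :=
    isPreconnected_connectedComponentIn.image _ (tr a).left.continuous.continuousOn
  refine hpre.subset_connectedComponentIn ?_ ?_
  · exact ⟨pt x, mem_connectedComponentIn rfl, pt_tr x a⟩
  · rintro _ ⟨c, hc, rfl⟩
    rw [← h5] at hc
    obtain ⟨z, rfl⟩ := hc
    exact key z

theorem image_eq [PerfectField k] (X Y : Over (Spec (CommRingCat.of k))) [GrpObj X]
    [IsProper X.hom] [ConnectedSpace X.left] [IsSeparated Y.hom] (f : X ⟶ Y)
    (x a : 𝟙_ (Over (Spec (CommRingCat.of k))) ⟶ X) :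
    (tr a).left '' connectedComponentIn (f.left ⁻¹' {f.left (pt x)}) (pt x) =
      connectedComponentIn (f.left ⁻¹' {f.left (pt (a * x))}) (pt (a * x)) := by
  refine (image_subset X Y f x a).antisymm fun c hc => ?_
  refine ⟨(tr a⁻¹).left c, ?_, ?_⟩
  · have := image_subset X Y f (a * x) a⁻¹ ⟨c, hc, rfl⟩
    rwa [inv_mul_cancel_left] at this
  · have h1 := tr_tr a⁻¹ a
    rw [mul_inv_cancel, tr_one] at h1
    have h2 := congrArg (fun t => t.left c) h1
    exact h2

end K449.FibConn
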