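import Groth.Agent.S1386
import Groth.Agent.Sga3C.FlatImage
import Groth.Agent.Sga3C.DimTop
import Mathlib.AlgebraicGeometry.Geometrically.Reduced
import Mathlib.CategoryTheory.Monoidal.Cartesian.Over
import Mathlib.CategoryTheory.Monoidal.Cartesian.Grp

/-!
# Surjective homomorphisms of group schemes are flat
-/

set_option autoImplicit false
universe u

open CategoryTheory Limits MonoidalCategory CartesianMonoidalCategory MonObj AlgebraicGeometry

namespace K449.FlatHom

/-- A homomorphism of group schemes over a field which is quasi-compact and surjective onto a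
reduced locally noetherian group scheme is flat. -/
theorem flat_of_surjective_field (K : Type u) [Field K] {G H : Over (Spec (CommRingCat.of K))}
    [GrpObj G] [GrpObj H] (f : G ⟶ H) [IsMonHom f] [QuasiCompact f.left] [Surjective f.left]
    [IsReduced H.left] [IsLocallyNoetherian H.left] : Flat f.left := by
  have h1 : Subsingleton ↥(Spec (CommRingCat.of K)) := inferInstanceAs (Subsingleton (PrimeSpectrum K))
  have h2 : ∀ X : Scheme.{u}, ∀ g : X ⟶ Spec (CommRingCat.of K), Flat g := fun X g => by
    infer_instance
  have h3 : Flat G.hom := h2 _ _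
  have h4 : IsSchemeTheoreticallyDominant f.left := .of_isDominant _
  have h5 : IsClosedImmersion (𝟙 H : H ⟶ H).left := inferInstanceAs (IsClosedImmersion (𝟙 H.left))
  exact Groth.Agent.Sga3C.FlatImage.flat_of_flat_ker f (h2 _ _) f (𝟙 H) (Category.comp_id f)

theorem isPullback_congr {W X Y Z : Scheme.{u}} {a : W ⟶ X} {b : W ⟶ Y} {c c' : X ⟶ Z}
    {d : Y ⟶ Z} (h : IsPullback a b c d) (hc : c = c') : IsPullback a b c' d := by
  subst hc
  exact h

/-- The square of a base changed morphism. -/
theorem isPullback_map {S T : Scheme.{u}} (t : T ⟶ S) {X Y : Over S} (f : X ⟶ Y) :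
    IsPullback (pullback.fst X.hom t) ((Over.pullback t).map f).left f.left
      (pullback.fst Y.hom t) := by
  have h2 : IsPullback (pullback.fst Y.hom t) (pullback.snd Y.hom t) Y.hom t := .of_hasPullback _ _
  have h1 : IsPullback (pullback.fst X.hom t) (pullback.snd X.hom t) X.hom t := .of_hasPullback _ _
  have e : ((Over.pullback t).map f).left ≫ pullback.snd Y.hom t = pullback.snd X.hom t :=
    Over.w ((Over.pullback t).map f)
  have h3 : IsPullback (pullback.fst X.hom t)
      (((Over.pullback t).map f).left ≫ pullback.snd Y.hom t) X.hom t := e.symm ▸ h1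
  exact IsPullback.of_bot (isPullback_congr h3 (Over.w f).symm) (pullback.lift_fst _ _ _).symm h2

/-- A quasi-compact surjective homomorphism from a flat group scheme locally of finite
presentation to a group scheme with reduced fibres is flat. -/
theorem flat_of_surjective {S : Scheme.{u}} {X Y : Over S} [GrpObj X] [GrpObj Y]
    [Flat X.hom] [LocallyOfFinitePresentation X.hom] [LocallyOfFiniteType Y.hom]
    [GeometricallyReduced Y.hom] (f : X ⟶ Y) [IsMonHom f] [QuasiCompact f.left]
    [Surjective f.left] : Flat f.left := by
  have hw : f.left ≫ Y.hom = X.hom := Over.w f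
  have : LocallyOfFinitePresentation (f.left ≫ Y.hom) := by rw [hw]; infer_instance
  have : Flat (f.left ≫ Y.hom) := by rw [hw]; infer_instance
  have key := (Groth.Agent.S1386.result f.left Y.hom).1
  rw [Flat.iff_flat_stalkMap]
  intro x
  refine ((key x).mp ⟨Flat.stalkMap _ x, ?_⟩).2
  set s := Y.hom (f.left x) with hs
  suffices h : Flat (MoreMor.fiberMap f.left Y.hom s) from Flat.stalkMap _ _
  have hp : IsPullback ((f.left ≫ Y.hom).fiberι s) (MoreMor.fiberMap f.left Y.hom s) f.left
      (Y.hom.fiberι s) := by
    have h1 : IsPullback ((f.left ≫ Y.hom).fiberι s) ((f.left ≫ Y.hom).fiberToSpecResidueField s)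
      (f.left ≫ Y.hom) (S.fromSpecResidueField s) := .of_hasPullback _ _
    have h2 : IsPullback (Y.hom.fiberι s) (Y.hom.fiberToSpecResidueField s) Y.hom
      (S.fromSpecResidueField s) := .of_hasPullback _ _
    have h3 : MoreMor.fiberMap f.left Y.hom s ≫ Y.hom.fiberToSpecResidueField s =
      (f.left ≫ Y.hom).fiberToSpecResidueField s := pullback.lift_snd _ _ _
    rw [← h3] at h1
    exact IsPullback.of_bot h1 (pullback.lift_fst _ _ _).symm h2
  let t : Spec (CommRingCat.of (S.residueField s)) ⟶ S := S.fromSpecResidueField s
  have hq := isPullback_map t f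
  let : GrpObj ((Over.pullback t).obj X) := Functor.grpObjObj
  let : GrpObj ((Over.pullback t).obj Y) := Functor.grpObjObj
  have : IsMonHom ((Over.pullback t).map f) := Functor.map.instIsMonHom _ _ _
  have i1 : QuasiCompact ((Over.pullback t).map f).left :=
    MorphismProperty.of_isPullback hq ‹QuasiCompact f.left›
  have i2 : Surjective ((Over.pullback t).map f).left :=
    MorphismProperty.of_isPullback hq ‹Surjective f.left›
  have i3 : IsReduced ((Over.pullback t).obj Y).left :=
    inferInstanceAs (IsReduced (Y.hom.fiber s))
  have i4 : IsLocallyNoetherian ((Over.pullback t).obj Y).left :=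
    LocallyOfFiniteType.isLocallyNoetherian (pullback.snd Y.hom t)
  have h := flat_of_surjective_field (S.residueField s) ((Over.pullback t).map f)
  let e : (f.left ≫ Y.hom).fiber s ≅ ((Over.pullback t).obj X).left := hp.isoIsPullback _ _ hq
  have he : e.hom ≫ ((Over.pullback t).map f).left = MoreMor.fiberMap f.left Y.hom s :=
    hp.isoIsPullback_hom_snd _ _ hq
  rw [← he]
  exact MorphismProperty.comp_mem _ _ _ (inferInstanceAs (Flat e.hom)) h

end K449.FlatHom
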