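import Groth.Agent.AbSch.K449.FibConn
import Groth.Agent.AbSch.K449.FlatHom
import Groth.Agent.Ega43.FibreDimNat
import Groth.Agent.VarietyA.LocDim
import Groth.Agent.Ega4fib.H172.FibDimBC
import Mathlib.AlgebraicGeometry.Geometrically.Integral

/-!
# Fibre dimension of morphisms from abelian varieties
-/

set_option autoImplicit false
universe u

open CategoryTheory Limits MonoidalCategory CartesianMonoidalCategory MonObj AlgebraicGeometry

namespace K449.FibDim

open K449.FibTrans2 Groth.Agent.CycB.RelDim Groth.Agent.VarietyA.LocDim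

section

variable {k : Type u} [Field k]

theorem rtd_pt (Y : Over (Spec (CommRingCat.of k)))
    (y : 𝟙_ (Over (Spec (CommRingCat.of k))) ⟶ Y) : rtd Y.hom (pt y) = 0 := by
  have he : y.left ≫ Y.hom = 𝟙 _ := Over.w y
  have h1 := rtd_comp y.left Y.hom (IsLocalRing.closedPoint k)
  rw [he, rtd_eq_zero_of_isPreimmersion] at h1
  exact ((add_eq_zero (a := rtd Y.hom (pt y))).mp h1.symm).1

theorem fibreDimAt_pt_le [PerfectField k] (X Y : Over (Spec (CommRingCat.of k))) [GrpObj X]
    [IsProper X.hom] [ConnectedSpace X.left] [IsSeparated Y.hom] (f : X ⟶ Y)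
    [LocallyOfFiniteType f.left]
    (x a : 𝟙_ (Over (Spec (CommRingCat.of k))) ⟶ X) :
    FlatMor.fibreDimAt f.left (pt x) ≤ FlatMor.fibreDimAt f.left (pt (a * x)) := by
  obtain ⟨m, hm⟩ := Groth.Agent.Ega43.FibreDimNat.exists_natCast_fibreDimAt f.left (pt (a * x))
  rw [hm]
  refine fibreDimAt_le f.left (pt x) m fun z hz hz' => ?_
  have hy : IsClosed ({f.left (pt x)} : Set Y.left) := K449.FibConn.isClosed_pt Y (x ≫ f)
  obtain ⟨F, i, x', h1, h2, h3, h4, h5⟩ := K449.FibConn.exists_sub X (closure {z})
    isClosed_closure isPreconnected_singleton.closure x hz.mem_closure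
  have hsub : closure {z} ⊆ f.left ⁻¹' {f.left (pt x)} :=
    closure_minimal (by rintro _ rfl; exact hz') (hy.preimage f.left.continuous)
  have key := apply_tr_eq X F Y i x' f (fun w => by
    rw [h4]
    exact hsub (by rw [← h5]; exact ⟨w, rfl⟩)) a
  rw [h4] at key
  obtain ⟨w, hw⟩ : z ∈ Set.range i.left := by
    rw [h5]; exact subset_closure rfl
  have h6 : f.left ((tr a).left z) = f.left (pt (a * x)) := by rw [← hw]; exact key w
  have h7 : (tr a).left z ⤳ pt (a * x) := by
    rw [← pt_tr]
    exact hz.map (tr a).left.continuous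
  obtain ⟨n, h8, h9⟩ := le_fibreDimAt f.left (pt (a * x)) ((tr a).left z) h7 h6
  have h10 : rtd X.hom z = rtd f.left z := by
    have h := rtd_comp f.left Y.hom z
    rw [Over.w f, hz'] at h
    rw [h]
    have : rtd Y.hom (f.left (pt x)) = 0 := rtd_pt Y (x ≫ f)
    rw [this, zero_add]
  have h11 : rtd X.hom ((tr a).left z) = rtd f.left ((tr a).left z) := by
    have h := rtd_comp f.left Y.hom ((tr a).left z)
    rw [Over.w f, h6] at h
    rw [h]
    have : rtd Y.hom (f.left (pt (a * x))) = 0 := rtd_pt Y ((a * x) ≫ f)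
    rw [this, zero_add]
  have h12 : rtd X.hom z = rtd X.hom ((tr a).left z) := by
    have : IsIso (tr a) := ⟨tr a⁻¹, by rw [tr_tr, inv_mul_cancel, tr_one],
      by rw [tr_tr, mul_inv_cancel, tr_one]⟩
    have : IsIso (tr a).left := inferInstanceAs (IsIso ((Over.forget _).map (tr a)))
    have h := rtd_comp (tr a).left X.hom z
    rw [Over.w (tr a), rtd_eq_zero_of_isPreimmersion (tr a).left, add_zero] at h
    exact h
  rw [← h10, h12, h11, h8]
  rw [hm] at h9
  exact_mod_cast h9

theorem fibreDimAt_pt_eq [PerfectField k] (X Y : Over (Spec (CommRingCat.of k))) [GrpObj X]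
    [IsProper X.hom] [ConnectedSpace X.left] [IsSeparated Y.hom] (f : X ⟶ Y)
    [LocallyOfFiniteType f.left]
    (x x' : 𝟙_ (Over (Spec (CommRingCat.of k))) ⟶ X) :
    FlatMor.fibreDimAt f.left (pt x) = FlatMor.fibreDimAt f.left (pt x') := by
  apply le_antisymm
  · have := fibreDimAt_pt_le X Y f x (x' * x⁻¹)
    rwa [inv_mul_cancel_right] at this
  · have := fibreDimAt_pt_le X Y f x' (x * x'⁻¹)
    rwa [inv_mul_cancel_right] at this

end

/-- The fibre dimension of a morphism from an abelian variety to a separated scheme is constant. -/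
theorem fibreDimAt_eq {k : Type u} [Field k] (X Y : Over (Spec (CommRingCat.of k))) [GrpObj X]
    [IsProper X.hom] [GeometricallyIntegral X.hom] [IsSeparated Y.hom] (f : X ⟶ Y)
    [LocallyOfFiniteType f.left] (x : X.left) :
    FlatMor.fibreDimAt f.left x =
      FlatMor.fibreDimAt f.left (η[X].left (IsLocalRing.closedPoint k)) := by
  let Ω : Type u := AlgebraicClosure (X.left.residueField x)
  let ξ : Spec (CommRingCat.of Ω) ⟶ X.left :=
    Spec.map (CommRingCat.ofHom (algebraMap (X.left.residueField x) Ω)) ≫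
      X.left.fromSpecResidueField x
  let t : Spec (CommRingCat.of Ω) ⟶ Spec (CommRingCat.of k) := ξ ≫ X.hom
  let X' := (Over.pullback t).obj X
  let Y' := (Over.pullback t).obj Y
  let f' : X' ⟶ Y' := (Over.pullback t).map f
  have hq := K449.FlatHom.isPullback_map t f
  let : GrpObj X' := Functor.grpObjObj
  have i1 : IsProper X'.hom := by dsimp [X']; infer_instance
  have i2 : GeometricallyIntegral X'.hom := by dsimp [X']; infer_instance
  have i3 : IsSeparated Y'.hom := by dsimp [Y']; infer_instance
  have i4 : LocallyOfFiniteType f'.left := MorphismProperty.of_isPullback hq ‹_›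
  have i5 : IsIntegral X'.left := GeometricallyIntegral.isIntegral_of_subsingleton X'.hom
  let a : 𝟙_ (Over (Spec (CommRingCat.of Ω))) ⟶ X' :=
    Over.homMk (pullback.lift ξ (𝟙 _) (by rw [Category.id_comp])) (pullback.lift_snd _ _ _)
  have he : η[X].left ≫ X.hom = 𝟙 _ := Over.w η[X]
  let b : 𝟙_ (Over (Spec (CommRingCat.of Ω))) ⟶ X' :=
    Over.homMk (pullback.lift (t ≫ η[X].left) (𝟙 _)
      (by rw [Category.assoc, he]; exact (Category.comp_id t).trans (Category.id_comp t).symm))
      (pullback.lift_snd _ _ _)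
  have key := fibreDimAt_pt_eq X' Y' f' a b
  have hbc := fun w => Groth.Agent.Ega4fib.H172.FibDimBC.fibreDimAt_of_isPullback hq w
  have ha : pullback.fst X.hom t (pt a) = x := by
    change pullback.fst X.hom t (pullback.lift ξ (𝟙 _) _ _) = x
    rw [← Scheme.Hom.comp_apply, pullback.lift_fst]
    change (Spec.map _ ≫ X.left.fromSpecResidueField x) _ = x
    rw [Scheme.Hom.comp_apply]
    exact Scheme.fromSpecResidueField_apply _ _
  have hb : pullback.fst X.hom t (pt b) = η[X].left (IsLocalRing.closedPoint k) := by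
    change pullback.fst X.hom t (pullback.lift (t ≫ η[X].left) (𝟙 _) _ _) = _
    rw [← Scheme.Hom.comp_apply, pullback.lift_fst, Scheme.Hom.comp_apply]
    congr 1
    exact Subsingleton.elim (α := ↥(Spec (CommRingCat.of k))) _ _
  have h1 := hbc (pt a)
  have h2 := hbc (pt b)
  rw [ha] at h1
  rw [hb] at h2
  rw [← h1, ← h2]
  exact key

end K449.FibDim
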