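import Groth.Agent.AbSch.K449.Rigid2
import Groth.Agent.S0981
import Mathlib.AlgebraicGeometry.Geometrically.Reduced
import Mathlib.AlgebraicGeometry.Geometrically.Connected
import Mathlib.CategoryTheory.Monoidal.Cartesian.Over
import Mathlib.CategoryTheory.Monoidal.Cartesian.Grp
import Mathlib.AlgebraicGeometry.Group.Abelian

/-!
# Translates of connected parts of fibres

Let `G` be a connected group scheme over a field, `f : G ⟶ Y` a morphism to a separated scheme and
`F` a proper geometrically connected and geometrically reduced subscheme contracted by `f`. Then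
`f` contracts every translate of `F`.
-/

set_option autoImplicit false
universe u

open CategoryTheory Limits MonoidalCategory CartesianMonoidalCategory MonObj AlgebraicGeometry

namespace K449.FibTrans

variable {k : Type u} [Field k]

theorem isIso_app {X S : Scheme.{u}} (f : X ⟶ S) [IsProper f] [Flat f]
    [LocallyOfFinitePresentation f] [GeometricallyReduced f] [GeometricallyConnected f]
    (V : S.Opens) : IsIso (f.app V) :=
  Groth.Agent.S0981.result f (fun _ _ _ _ =>
    ⟨GeometricallyReduced.geometrically_isReduced _ _ _ (.of_hasPullback _ _),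
      GeometricallyConnected.geometrically_connectedSpace _ _ _ (.of_hasPullback _ _)⟩) V

/-- A morphism contracting a proper geometrically connected and geometrically reduced subscheme
contracts all its translates. -/
theorem mul_comp_eq (G F Y : Over (Spec (CommRingCat.of k))) [GrpObj G] [ConnectedSpace G.left]
    [IsProper F.hom] [GeometricallyReduced F.hom] [GeometricallyConnected F.hom]
    [IsSeparated Y.hom] (i : F ⟶ G) (x₁ : 𝟙_ (Over (Spec (CommRingCat.of k))) ⟶ F) (f : G ⟶ Y)
    (hc : i ≫ f = toUnit F ≫ x₁ ≫ i ≫ f) :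
    (fst G F * (snd G F ≫ i)) ≫ f = (fst G F * (toUnit _ ≫ x₁ ≫ i)) ≫ f := by
  let p : (G ⊗ F).left ⟶ G.left := (fst G F).left
  have h1 : IsProper p := inferInstanceAs (IsProper (Limits.pullback.fst G.hom F.hom))
  have h2 : Flat p := inferInstanceAs (Flat (Limits.pullback.fst G.hom F.hom))
  have h3 : LocallyOfFinitePresentation F.hom :=
    LocallyOfFinitePresentation.iff_locallyOfFiniteType.mpr inferInstance
  have h4 : LocallyOfFinitePresentation p :=
    inferInstanceAs (LocallyOfFinitePresentation (Limits.pullback.fst G.hom F.hom))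
  have h5 : GeometricallyReduced p :=
    inferInstanceAs (GeometricallyReduced (Limits.pullback.fst G.hom F.hom))
  have h6 : GeometricallyConnected p :=
    inferInstanceAs (GeometricallyConnected (Limits.pullback.fst G.hom F.hom))
  have h7 : IsSeparated (fst G Y).left :=
    inferInstanceAs (IsSeparated (Limits.pullback.fst G.hom Y.hom))
  let u : G ⟶ G ⊗ F := lift (𝟙 G) (toUnit G ≫ x₁)
  have hu : u ≫ fst G F = 𝟙 G := lift_fst _ _
  have hu' : u.left ≫ p = 𝟙 _ := by
    rw [← Over.comp_left, hu]; rfl
  let m : G ⊗ F ⟶ Y := (fst G F * (snd G F ≫ i)) ≫ f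
  have hum : u ≫ m = (𝟙 G * (toUnit _ ≫ x₁ ≫ i)) ≫ f := by
    rw [← Category.assoc, comp_mul, hu, lift_snd_assoc, Category.assoc]
  let m' : G ⊗ F ⟶ G ⊗ Y := lift (fst G F) m
  have key : m'.left = p ≫ u.left ≫ m'.left := by
    refine K449.Rigid2.eq_of_connected p p.isClosedMap p.isOpenMap (isIso_app p) u.left hu'
      (fst G Y).left m'.left ?_ (Spec (CommRingCat.of k)) η[G].left ?_
    · rw [← Over.comp_left, lift_fst]
    · let t : Over.mk (pullback.fst p η[G].left ≫ (G ⊗ F).hom) ⟶ G ⊗ F :=
        Over.homMk (pullback.fst p η[G].left) rfl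
      have ht : t ≫ fst G F = 1 := by
        have e1 : (1 : Over.mk (pullback.fst p η[G].left ≫ (G ⊗ F).hom) ⟶ G) =
          toUnit _ ≫ η[G] := rfl
        rw [e1]
        ext1
        change pullback.fst p η[G].left ≫ p = (pullback.fst p η[G].left ≫ (G ⊗ F).hom) ≫ η[G].left
        have e2 : (G ⊗ F).hom = p ≫ G.hom := (Over.w (fst G F)).symm
        have e3 : η[G].left ≫ G.hom = 𝟙 _ := Over.w η[G]
        rw [e2, pullback.condition_assoc, e3, Category.comp_id, pullback.condition]
      suffices h : t ≫ m' = t ≫ fst G F ≫ u ≫ m' from congrArg CommaMorphism.left h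
      apply CartesianMonoidalCategory.hom_ext
      · simp only [m', Category.assoc, lift_fst, hu, Category.comp_id]
      · simp only [m', Category.assoc, lift_snd, hum]
        have e4 : t ≫ m = toUnit _ ≫ x₁ ≫ i ≫ f := by
          change t ≫ (fst G F * (snd G F ≫ i)) ≫ f = _
          rw [← Category.assoc, comp_mul, ht, _root_.one_mul]
          calc (t ≫ snd G F ≫ i) ≫ f = (t ≫ snd G F) ≫ (i ≫ f) := by simp only [Category.assoc]
            _ = (t ≫ snd G F) ≫ toUnit F ≫ x₁ ≫ i ≫ f := congrArg _ hc
            _ = toUnit _ ≫ x₁ ≫ i ≫ f := comp_toUnit_assoc _ _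
        have e5 : t ≫ fst G F ≫ (𝟙 G * (toUnit _ ≫ x₁ ≫ i)) = toUnit _ ≫ x₁ ≫ i := by
          rw [comp_mul, comp_mul, Category.comp_id, ht, _root_.one_mul, comp_toUnit_assoc,
            comp_toUnit_assoc]
        rw [e4, ← Category.assoc (fst G F), ← Category.assoc t, e5, Category.assoc, Category.assoc]
  have key' : m' = fst G F ≫ u ≫ m' := Over.OverMorphism.ext key
  have := congrArg (· ≫ snd G Y) key'
  simp only [m', Category.assoc, lift_snd, hum] at this
  refine this.trans ?_
  rw [← Category.assoc, comp_mul, Category.comp_id, comp_toUnit_assoc]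

end K449.FibTrans
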