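import Groth.Agent.AbSch.K449.FibTrans
import Groth.Agent.Ega43.H134.CompBound

/-!
# Translates of connected parts of fibres, on points
-/

set_option autoImplicit false
universe u

open CategoryTheory Limits MonoidalCategory CartesianMonoidalCategory MonObj AlgebraicGeometry

namespace K449.FibTrans2

open K449.FibTrans

variable {k : Type u} [Field k]

/-- The point of the underlying space given by a rational point. -/
noncomputable abbrev pt {X : Over (Spec (CommRingCat.of k))}
    (x : 𝟙_ (Over (Spec (CommRingCat.of k))) ⟶ X) : X.left :=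
  x.left (IsLocalRing.closedPoint k)

/-- left translation by a rational point. -/
noncomputable abbrev tr {G : Over (Spec (CommRingCat.of k))} [GrpObj G]
    (a : 𝟙_ (Over (Spec (CommRingCat.of k))) ⟶ G) : G ⟶ G :=
  (toUnit G ≫ a) * 𝟙 G

/-- A topologically constant morphism from a proper geometrically reduced and connected scheme with
a rational point is constant. -/
theorem eq_const (F Y : Over (Spec (CommRingCat.of k)))
    [IsProper F.hom] [GeometricallyReduced F.hom] [GeometricallyConnected F.hom]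
    (x₁ : 𝟙_ (Over (Spec (CommRingCat.of k))) ⟶ F) (h : F ⟶ Y)
    (hc : ∀ z : F.left, h.left z = h.left (pt x₁)) : h = toUnit F ≫ x₁ ≫ h := by
  have h3 : LocallyOfFinitePresentation F.hom :=
    LocallyOfFinitePresentation.iff_locallyOfFiniteType.mpr inferInstance
  have he : x₁.left ≫ F.hom = 𝟙 _ := Over.w x₁
  obtain ⟨U, hU, hU'⟩ := K449.Rigid.exists_open_of_fibre_section F.hom F.hom.isClosedMap
    (isIso_app F.hom) x₁.left he h.left (IsLocalRing.closedPoint k) (fun z _ => hc z)
  have hsub : Subsingleton ↥(Spec (CommRingCat.of k)) := inferInstanceAs (Subsingleton (PrimeSpectrum k))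
  have : U = ⊤ := by
    ext z
    simp only [TopologicalSpace.Opens.coe_top, Set.mem_univ, iff_true]
    rw [Subsingleton.elim z (IsLocalRing.closedPoint k)]
    exact hU
  subst this
  ext1
  rw [← cancel_epi F.left.topIso.hom]
  exact hU'

theorem lift_tr {G F : Over (Spec (CommRingCat.of k))} [GrpObj G] (i : F ⟶ G)
    (a : 𝟙_ (Over (Spec (CommRingCat.of k))) ⟶ G) : i ≫ tr a = (toUnit F ≫ a) * i := by
  rw [comp_mul, comp_toUnit_assoc, Category.comp_id]

theorem tr_comp {G : Over (Spec (CommRingCat.of k))} [GrpObj G]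
    (x a : 𝟙_ (Over (Spec (CommRingCat.of k))) ⟶ G) : x ≫ tr a = a * x := by
  rw [lift_tr, toUnit_unique (toUnit (𝟙_ _)) (𝟙 _), Category.id_comp]

theorem pt_tr {G : Over (Spec (CommRingCat.of k))} [GrpObj G]
    (x a : 𝟙_ (Over (Spec (CommRingCat.of k))) ⟶ G) : (tr a).left (pt x) = pt (a * x) := by
  rw [← tr_comp x a]
  rfl

theorem tr_tr {G : Over (Spec (CommRingCat.of k))} [GrpObj G]
    (a b : 𝟙_ (Over (Spec (CommRingCat.of k))) ⟶ G) : tr a ≫ tr b = tr (b * a) := by
  rw [lift_tr, tr, tr, ← _root_.mul_assoc, comp_mul]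

theorem tr_one {G : Over (Spec (CommRingCat.of k))} [GrpObj G] :
    tr (1 : 𝟙_ (Over (Spec (CommRingCat.of k))) ⟶ G) = 𝟙 G := by
  rw [tr, comp_one, _root_.one_mul]

/-- Translates of a connected, proper part of a fibre are contracted. -/
theorem apply_tr_eq (G F Y : Over (Spec (CommRingCat.of k))) [GrpObj G] [ConnectedSpace G.left]
    [IsProper F.hom] [GeometricallyReduced F.hom] [GeometricallyConnected F.hom]
    [IsSeparated Y.hom] (i : F ⟶ G) (x₁ : 𝟙_ (Over (Spec (CommRingCat.of k))) ⟶ F) (f : G ⟶ Y)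
    (hc : ∀ z : F.left, f.left (i.left z) = f.left (pt (x₁ ≫ i)))
    (a : 𝟙_ (Over (Spec (CommRingCat.of k))) ⟶ G) (z : F.left) :
    f.left ((tr a).left (i.left z)) = f.left (pt (a * (x₁ ≫ i))) := by
  have h1 : i ≫ f = toUnit F ≫ x₁ ≫ i ≫ f := by
    exact eq_const F Y x₁ (i ≫ f) fun z => hc z
  have h2 := congrArg (lift (toUnit F ≫ a) (𝟙 F) ≫ ·) (mul_comp_eq G F Y i x₁ f h1)
  have h3 : (i ≫ tr a) ≫ f = toUnit F ≫ (a * (x₁ ≫ i)) ≫ f := by
    rw [lift_tr]
    have e1 : lift (toUnit F ≫ a) (𝟙 F) ≫ (fst G F * (snd G F ≫ i)) = (toUnit F ≫ a) * i := by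
      rw [comp_mul, lift_fst, lift_snd_assoc, Category.id_comp]
    have e2 : lift (toUnit F ≫ a) (𝟙 F) ≫ (fst G F * (toUnit _ ≫ x₁ ≫ i)) =
        toUnit F ≫ (a * (x₁ ≫ i)) := by
      rw [comp_mul, lift_fst, comp_toUnit_assoc, comp_mul]
    simp only [← Category.assoc] at h2
    simp only [← Category.assoc] at e1 e2
    rw [e1, e2] at h2
    rw [h2, Category.assoc]
  have h4 := congrArg (fun t => t.left z) h3
  have h5 : (toUnit F).left z = IsLocalRing.closedPoint k := Subsingleton.elim
    (α := ↥(Spec (CommRingCat.of k))) _ _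
  rw [Over.comp_left, Over.comp_left, Over.comp_left, Over.comp_left, Scheme.Hom.comp_apply,
    Scheme.Hom.comp_apply, Scheme.Hom.comp_apply, Scheme.Hom.comp_apply, h5] at h4
  exact h4

end K449.FibTrans2
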