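import Groth.Agent.Fdesc.InvCx
import Groth.Agent.Dcoh.FibVan304
import Groth.Agent.CurvesB.GenFibre

/-!
# Invertible modules with vanishing higher cohomology on the fibres over closed points

`X` proper, flat, locally of finite presentation over `Spec A`, `A` arbitrary, `L` invertible with
`H^p(X ×_A A/m, L) = 0` for all `p ≥ 1` and all maximal ideals `m`: then `H^p(X, L) = 0` for `p ≥ 1`
and `H^0(X, L)` is finite projective.
-/

set_option autoImplicit false
universe u

open CategoryTheory CategoryTheory.Limits AlgebraicGeometry Opposite TopologicalSpace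

namespace K449.FibVan

open Groth.Agent Groth.Agent.Ega3B.MasterAsm

section Quot

variable {A : Type u} [CommRing A] (m : Ideal A)

set_option backward.isDefEq.respectTransparency false in
/-- `A / m` as an `A`-module in two ways. -/
noncomputable def kap : ModuleCat.of A (A ⧸ m) ≅
    (ModuleCat.restrictScalars (Ideal.Quotient.mk m)).obj (ModuleCat.of (A ⧸ m) (A ⧸ m)) where
  hom := ModuleCat.ofHom (X := (A ⧸ m))
    (Y := ((ModuleCat.restrictScalars (Ideal.Quotient.mk m)).obj (ModuleCat.of (A ⧸ m) (A ⧸ m))))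
    { toFun := fun x => x
      map_add' := fun _ _ => rfl
      map_smul' := fun a x => by
        obtain ⟨x, rfl⟩ := Ideal.Quotient.mk_surjective x
        rfl }
  inv := ModuleCat.ofHom (Y := (A ⧸ m))
    (X := ((ModuleCat.restrictScalars (Ideal.Quotient.mk m)).obj (ModuleCat.of (A ⧸ m) (A ⧸ m))))
    { toFun := fun x => x
      map_add' := fun _ _ => rfl
      map_smul' := fun a x => by
        obtain ⟨x, rfl⟩ := Ideal.Quotient.mk_surjective x
        rfl }

end Quot

/-- Vanishing and freeness over an affine base. -/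
theorem affine (A : Type u) [CommRing A] (X : Scheme.{u}) [X.Over (Spec (CommRingCat.of A))]
    [IsProper (X ↘ Spec (CommRingCat.of A))] [Flat (X ↘ Spec (CommRingCat.of A))]
    [LocallyOfFinitePresentation (X ↘ Spec (CommRingCat.of A))] (L : X.Modules)
    (hL : PicF.IsInvertible L)
    (h : ∀ (m : Ideal A) [m.IsMaximal] (Y : Scheme.{u}) [Y.Over (Spec (CommRingCat.of (A ⧸ m)))]
      (j : Y ⟶ X) (_ : IsPullback j (Y ↘ Spec (CommRingCat.of (A ⧸ m)))
        (X ↘ Spec (CommRingCat.of A)) (Spec.map (CommRingCat.ofHom (Ideal.Quotient.mk m)))),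
      ∀ p : ℕ, 1 ≤ p → Subsingleton (Coh.HH Y ((Scheme.Modules.pullback j).obj L) p)) :
    (∀ p : ℕ, 1 ≤ p → Subsingleton (Coh.HH X L p)) ∧ Module.Finite A (Coh.HH X L 0) ∧
      Module.Projective A (Coh.HH X L 0) := by
  have i1 : CompactSpace X := QuasiCompact.compactSpace_of_compactSpace (X ↘ Spec (CommRingCat.of A))
  obtain ⟨P, hP, ⟨b, hb⟩, hpos, hε⟩ := Fdesc.InvCx.exists_complex A X L hL
  have hq : Coh.IsQCoh L := Ega2.QCohLocal.isQCoh_of_isInvertible hL
  have h2 : ∀ m : Ideal A, m.IsMaximal → ∀ i < (0 : ℤ),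
      IsZero (CohIII.T P i (ModuleCat.of A (A ⧸ m))) := by
    intro m hm i hi
    obtain ⟨q, rfl⟩ : ∃ q : ℕ, i = -(q : ℤ) := ⟨(-i).toNat, by omega⟩
    let Y : Scheme.{u} := pullback (X ↘ Spec (CommRingCat.of A))
      (Spec.map (CommRingCat.ofHom (Ideal.Quotient.mk m)))
    let iY : Y.Over (Spec (CommRingCat.of (A ⧸ m))) := ⟨pullback.snd _ _⟩
    have H : IsPullback (pullback.fst _ _) (Y ↘ Spec (CommRingCat.of (A ⧸ m)))
        (X ↘ Spec (CommRingCat.of A)) (Spec.map (CommRingCat.ofHom (Ideal.Quotient.mk m))) :=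
      IsPullback.of_hasPullback _ _
    obtain ⟨E, -⟩ := CurvesB.GenFibre.exists_addEquiv (Ideal.Quotient.mk m) _ H L hq _
      (Iso.refl _) q (CohIII.TFun P (-(q : ℤ))) (hε q)
    have h3 := h m Y _ H q (by omega)
    have h4 : Subsingleton ((CohIII.TFun P (-(q : ℤ))).obj
        ((ModuleCat.restrictScalars (Ideal.Quotient.mk m)).obj (ModuleCat.of (A ⧸ m) (A ⧸ m)))) :=
      E.toEquiv.subsingleton
    exact IsZero.of_iso (ModuleCat.isZero_of_subsingleton _)
      ((CohIII.TFun P (-(q : ℤ))).mapIso (kap m))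
  obtain ⟨k1, k2, k3, -⟩ := Dcoh.FibVan304.main P hP b hb h2 fun M => hpos 1 M (by norm_num)
  refine ⟨fun q hq => ?_, ?_⟩
  · obtain ⟨e⟩ := nonempty_homology_equiv (A := A) L P q (hε q)
    have : Subsingleton (P.homology (-(q : ℤ))) :=
      ModuleCat.subsingleton_of_isZero (Dcoh.FibVan304.isZero_homology P hP b hb h2 (-(q : ℤ))
        (by omega))
    exact e.symm.toEquiv.subsingleton
  · obtain ⟨e⟩ := nonempty_homology_equiv (A := A) L P 0 (hε 0)
    have h5 : -((0 : ℕ) : ℤ) = 0 := by simp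
    rw [h5] at e
    exact ⟨Module.Finite.equiv e, Module.Projective.of_equiv e⟩

end K449.FibVan
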