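import Mathlib.AlgebraicGeometry.Morphisms.Proper
import Mathlib.AlgebraicGeometry.Morphisms.Flat
import Mathlib.AlgebraicGeometry.Morphisms.FinitePresentation
import Mathlib.AlgebraicGeometry.Morphisms.UniversallyOpen
import Mathlib.AlgebraicGeometry.Fiber

/-!
# The rigidity lemma

`p : X ⟶ S` closed with `O_S = p_* O_X`. If `h : X ⟶ Y` contracts the fibre over `s` to a point then
`h` factors through `p` over a neighbourhood of `s`.
-/

set_option autoImplicit false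
universe u

open CategoryTheory Limits AlgebraicGeometry

namespace K449.Rigid

/-- If `p.appTop` is an isomorphism then every morphism from `X` to an affine scheme factors
through `p`. -/
theorem exists_fac_of_isAffine {X S Y : Scheme.{u}} [IsAffine Y] (p : X ⟶ S) [IsIso p.appTop]
    (h : X ⟶ Y) : ∃ g : S ⟶ Y, p ≫ g = h := by
  refine ⟨S.toSpecΓ ≫ Spec.map (h.appTop ≫ inv p.appTop) ≫ Y.isoSpec.inv, ?_⟩
  rw [Scheme.toSpecΓ_naturality_assoc, ← Spec.map_comp_assoc, Category.assoc, IsIso.inv_hom_id,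
    Category.comp_id, ← Scheme.toSpecΓ_naturality_assoc, Scheme.toSpecΓ_isoSpec_inv,
    Category.comp_id]

/-- The open rigidity lemma. -/
theorem exists_open_of_fibre {X S Y : Scheme.{u}} (p : X ⟶ S) (hc : IsClosedMap p)
    (hp : ∀ V : S.Opens, IsIso (p.app V)) (h : X ⟶ Y) (s : S) (y : Y)
    (hy : ∀ x : X, p x = s → h x = y) :
    ∃ U : S.Opens, s ∈ U ∧ ∃ g : U.toScheme ⟶ Y, (p ⁻¹ᵁ U).ι ≫ h = (p ∣_ U) ≫ g := by
  obtain ⟨_, ⟨V, hV, rfl⟩, hyV, -⟩ := Y.isBasis_affineOpens.exists_subset_of_mem_open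
    (Set.mem_univ y) isOpen_univ
  let U : S.Opens := ⟨(p '' ((h ⁻¹ᵁ V : X.Opens) : Set X)ᶜ)ᶜ,
    (hc _ (h ⁻¹ᵁ V).isOpen.isClosed_compl).isOpen_compl⟩
  have hle : p ⁻¹ᵁ U ≤ h ⁻¹ᵁ V := by
    intro x hx
    by_contra hx'
    exact hx ⟨x, hx', rfl⟩
  refine ⟨U, ?_, ?_⟩
  · rintro ⟨x, hx, hxs⟩
    exact hx (by
      change h x ∈ V
      rw [hy x hxs]
      exact hyV)
  · have : IsAffine V := hV
    have : IsIso (p ∣_ U).appTop := by
      rw [morphismRestrict_appTop]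
      have h0 := hp (U.ι ''ᵁ ⊤)
      refine @IsIso.comp_isIso _ _ _ _ _ _ _ h0 ?_
      exact Functor.map_isIso _ _
    obtain ⟨g, hg⟩ := exists_fac_of_isAffine (p ∣_ U) (h.resLE V (p ⁻¹ᵁ U) hle)
    refine ⟨g ≫ Scheme.Opens.ι V, ?_⟩
    rw [← Category.assoc, hg, Scheme.Hom.resLE_comp_ι]

/-- The open rigidity lemma in the presence of a section. -/
theorem exists_open_of_fibre_section {X S Y : Scheme.{u}} (p : X ⟶ S) (hc : IsClosedMap p)
    (hp : ∀ V : S.Opens, IsIso (p.app V)) (e : S ⟶ X) (he : e ≫ p = 𝟙 S) (h : X ⟶ Y) (s : S)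
    (hy : ∀ x : X, p x = s → h x = h (e s)) :
    ∃ U : S.Opens, s ∈ U ∧ (p ⁻¹ᵁ U).ι ≫ h = (p ⁻¹ᵁ U).ι ≫ p ≫ e ≫ h := by
  obtain ⟨U, hsU, g, hg⟩ := exists_open_of_fibre p hc hp h s _ hy
  refine ⟨U, hsU, ?_⟩
  have hle : U ≤ e ⁻¹ᵁ (p ⁻¹ᵁ U) := by
    intro x hx
    change p (e x) ∈ U
    rw [← Scheme.Hom.comp_apply, he]
    exact hx
  have h1 : e.resLE (p ⁻¹ᵁ U) U hle ≫ (p ∣_ U) = 𝟙 _ := by
    rw [← cancel_mono U.ι, Category.assoc, morphismRestrict_ι, Scheme.Hom.resLE_comp_ι_assoc, he,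
      Category.comp_id, Category.id_comp]
  have h2 : U.ι ≫ e ≫ h = g := by
    rw [← Scheme.Hom.resLE_comp_ι_assoc e hle, hg, reassoc_of% h1]
  rw [← morphismRestrict_ι_assoc, h2, hg]

/-- Two morphisms agreeing on an open cover of an open subset. -/
theorem ι_comp_eq_of_forall {X Y : Scheme.{u}} (f g : X ⟶ Y) (W : X.Opens)
    (h : ∀ x ∈ W, ∃ U : X.Opens, x ∈ U ∧ U.ι ≫ f = U.ι ≫ g) : W.ι ≫ f = W.ι ≫ g := by
  choose! U hxU hU using h
  refine Scheme.Cover.hom_ext (W.toScheme.openCoverOfIsOpenCover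
    (fun x : W => W.ι ⁻¹ᵁ (U x.1)) ?_) _ _ fun x => ?_
  · rw [TopologicalSpace.IsOpenCover, ← top_le_iff]
    intro x _
    exact TopologicalSpace.Opens.mem_iSup.mpr ⟨x, hxU x.1 x.2⟩
  · change (W.ι ⁻¹ᵁ (U x.1)).ι ≫ W.ι ≫ f = (W.ι ⁻¹ᵁ (U x.1)).ι ≫ W.ι ≫ g
    rw [← morphismRestrict_ι_assoc, ← morphismRestrict_ι_assoc, hU x.1 x.2]

/-- The equalizer of two morphisms into a separated scheme is a closed subscheme. -/
theorem exists_equalizer {X Y S : Scheme.{u}} (q : Y ⟶ S) [IsSeparated q] (f g : X ⟶ Y)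
    (hfg : f ≫ q = g ≫ q) : ∃ (E : Scheme.{u}) (i : E ⟶ X), IsClosedImmersion i ∧
      i ≫ f = i ≫ g ∧ ∀ (T : Scheme.{u}) (t : T ⟶ X), t ≫ f = t ≫ g → ∃ u, u ≫ i = t := by
  let f' : Over.mk (f ≫ q) ⟶ Over.mk q := Over.homMk f rfl
  let g' : Over.mk (f ≫ q) ⟶ Over.mk q := Over.homMk g hfg.symm
  have : IsSeparated (Over.mk q).hom := ‹IsSeparated q›
  refine ⟨_, (equalizer.ι f' g').left, inferInstance,
    congrArg CommaMorphism.left (equalizer.condition f' g'), fun T t ht => ?_⟩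
  let t' : Over.mk (t ≫ f ≫ q) ⟶ Over.mk (f ≫ q) := Over.homMk t rfl
  have ht' : t' ≫ f' = t' ≫ g' := by
    ext1
    exact ht
  exact ⟨(equalizer.lift t' ht').left, congrArg CommaMorphism.left (equalizer.lift_ι t' ht')⟩

/-- The rigidity lemma: the locus over which the pointed morphism `h` is constant is open and
closed. -/
theorem exists_clopen {X S Y : Scheme.{u}} (p : X ⟶ S) (hc : IsClosedMap p) (ho : IsOpenMap p)
    (hp : ∀ V : S.Opens, IsIso (p.app V)) (e : S ⟶ X) (he : e ≫ p = 𝟙 S)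
    (q : Y ⟶ S) [IsSeparated q] (h : X ⟶ Y) (hq : h ≫ q = p) (s : S)
    (hs : p.fiberι s ≫ h = p.fiberι s ≫ p ≫ e ≫ h) :
    ∃ W : S.Opens, IsClosed (W : Set S) ∧ s ∈ W ∧
      (p ⁻¹ᵁ W).ι ≫ h = (p ⁻¹ᵁ W).ι ≫ p ≫ e ≫ h := by
  have hw : h ≫ q = (p ≫ e ≫ h) ≫ q := by
    rw [Category.assoc, Category.assoc, hq, he, Category.comp_id]
  -- the equalizer
  obtain ⟨E', i, hi, hcond, hlift⟩ := exists_equalizer q h (p ≫ e ≫ h) hw
  let E : Set X := Set.range i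
  have hEc : IsClosed E := i.isClosedEmbedding.isClosed_range
  have hEq : ∀ x ∈ E, h x = h (e (p x)) := by
    rintro _ ⟨z, rfl⟩
    have := congrArg (fun t => t z) hcond
    simpa using this
  have hlift' : ∀ (T : Scheme.{u}) (t : T ⟶ X), t ≫ h = t ≫ p ≫ e ≫ h → ∀ z : T, t z ∈ E := by
    intro T t ht z
    obtain ⟨u, hu⟩ := hlift T t ht
    exact ⟨u z, by rw [← Scheme.Hom.comp_apply, hu]⟩
  let W : Set S := (p '' Eᶜ)ᶜ
  have hmem : ∀ t : S, t ∈ W ↔ ∀ x : X, p x = t → x ∈ E := by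
    intro t
    constructor
    · intro ht x hx
      by_contra hx'
      exact ht ⟨x, hx', hx⟩
    · rintro ht ⟨x, hx, hx'⟩
      exact hx (ht x hx')
  have hWc : IsClosed W := (ho _ hEc.isOpen_compl).isClosed_compl
  have key : ∀ t ∈ W, ∃ U : S.Opens, t ∈ U ∧ (p ⁻¹ᵁ U).ι ≫ h = (p ⁻¹ᵁ U).ι ≫ p ≫ e ≫ h := by
    intro t ht
    refine exists_open_of_fibre_section p hc hp e he h t fun x hx => ?_
    rw [hEq x ((hmem t).mp ht x hx), hx]
  have hWo : IsOpen W := by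
    rw [isOpen_iff_forall_mem_open]
    intro t ht
    obtain ⟨U, htU, hU⟩ := key t ht
    refine ⟨U, fun t' ht' => (hmem t').mpr fun x hx => ?_, U.isOpen, htU⟩
    have hx' : x ∈ p ⁻¹ᵁ U := by
      change p x ∈ U
      rw [hx]; exact ht'
    exact hlift' _ _ hU ⟨x, hx'⟩
  refine ⟨⟨W, hWo⟩, hWc, ?_, ?_⟩
  · refine (hmem s).mpr fun x hx => ?_
    have hx' : x ∈ Set.range (p.fiberι s) := by
      rw [Scheme.Hom.range_fiberι]
      exact hx
    obtain ⟨z, rfl⟩ := hx'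
    exact hlift' _ _ hs z
  · refine ι_comp_eq_of_forall _ _ _ fun x hx => ?_
    obtain ⟨U, htU, hU⟩ := key (p x) hx
    exact ⟨p ⁻¹ᵁ U, htU, hU⟩

end K449.Rigid
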