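import Groth.Agent.AbSch.K449.CanSec
import Groth.Agent.AbSch.K449.FibTrans2
import Groth.Agent.Sga7.H260.Square
import Groth.Agent.Ega2.WeightPull
import Groth.Agent.Ega2.AmpleWeight
import Groth.Agent.VarietyA.Dim1GlobGen

/-!
# Sections of the square of an invertible module on an abelian variety

For a section `s` of `L` and a rational point `a`, the theorem of the square gives a section of
`L ⊗ L` generating exactly over `t_a⁻¹(X_s) ∩ t_{-a}⁻¹(X_s)`.
-/

set_option autoImplicit false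
universe u

open CategoryTheory Limits MonoidalCategory CartesianMonoidalCategory MonObj AlgebraicGeometry
open TopologicalSpace

namespace K449.SqSec

open K449.FibTrans2 Groth.Agent.Grpsch.PicGrp Groth.Agent Groth.Agent.Fdesc.LocGen

variable {k : Type u} [Field k]

/-- Closed points over an algebraically closed field are rational. -/
theorem exists_pt_eq [IsAlgClosed k] (X : Over (Spec (CommRingCat.of k)))
    [LocallyOfFiniteType X.hom] (x : X.left) (hx : IsClosed ({x} : Set X.left)) :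
    ∃ a : 𝟙_ (Over (Spec (CommRingCat.of k))) ⟶ X, pt a = x :=
  ⟨Over.homMk (pointOfClosedPoint X.hom x hx) (pointOfClosedPoint_comp X.hom x hx),
    pointOfClosedPoint_apply X.hom x hx _⟩

/-- A nonempty open subset contains a rational point. -/
theorem exists_pt_mem [IsAlgClosed k] (X : Over (Spec (CommRingCat.of k)))
    [LocallyOfFiniteType X.hom] (U : X.left.Opens) (hU : (U : Set X.left).Nonempty) :
    ∃ a : 𝟙_ (Over (Spec (CommRingCat.of k))) ⟶ X, pt a ∈ U := by
  have : JacobsonSpace ↥X.left := LocallyOfFiniteType.jacobsonSpace X.hom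
  have h1 : closure ((U : Set X.left) ∩ closedPoints X.left) = closure (U : Set X.left) :=
    JacobsonSpace.closure_inter_closedPoints_eq_closure (X := X.left) U.2.isLocallyClosed
  obtain ⟨x, hxU, hx⟩ : ((U : Set X.left) ∩ closedPoints X.left).Nonempty := by
    by_contra h
    rw [Set.not_nonempty_iff_eq_empty.mp h, closure_empty] at h1
    exact hU.ne_empty ((closure_empty_iff _).mp h1.symm)
  obtain ⟨a, rfl⟩ := exists_pt_eq X x hx
  exact ⟨a, hxU⟩

/-- The open set of `g` with `g · b ∈ U`, `g⁻¹ · b ∈ U` contains a rational point. -/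
theorem exists_translate [IsAlgClosed k] {G : Over (Spec (CommRingCat.of k))} [GrpObj G]
    [LocallyOfFiniteType G.hom] [IrreducibleSpace G.left] (U : G.left.Opens)
    (hU : (U : Set G.left).Nonempty) (b : 𝟙_ (Over (Spec (CommRingCat.of k))) ⟶ G) :
    ∃ a : 𝟙_ (Over (Spec (CommRingCat.of k))) ⟶ G,
      (tr a).left (pt b) ∈ U ∧ (tr a⁻¹).left (pt b) ∈ U := by
  obtain ⟨c, hc⟩ := exists_pt_mem G U hU
  let φ : G ⟶ G := 𝟙 G * (toUnit G ≫ b)
  let ψ : G ⟶ G := (𝟙 G)⁻¹ * (toUnit G ≫ b)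
  have hφ : ∀ a : 𝟙_ (Over (Spec (CommRingCat.of k))) ⟶ G, a ≫ φ = a * b := by
    intro a
    rw [comp_mul, Category.comp_id, comp_toUnit_assoc,
      toUnit_unique (toUnit (𝟙_ _)) (𝟙 _), Category.id_comp]
  have hψ : ∀ a : 𝟙_ (Over (Spec (CommRingCat.of k))) ⟶ G, a ≫ ψ = a⁻¹ * b := by
    intro a
    rw [comp_mul, GrpObj.comp_inv, Category.comp_id, comp_toUnit_assoc,
      toUnit_unique (toUnit (𝟙_ _)) (𝟙 _), Category.id_comp]
  have h1 : ((φ.left ⁻¹ᵁ U : G.left.Opens) : Set G.left).Nonempty := by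
    refine ⟨pt (c * b⁻¹), ?_⟩
    change (φ.left (pt (c * b⁻¹))) ∈ U
    have h2 : φ.left (pt (c * b⁻¹)) = pt ((c * b⁻¹) ≫ φ) := rfl
    rw [h2, hφ, inv_mul_cancel_right]
    exact hc
  have h2 : ((ψ.left ⁻¹ᵁ U : G.left.Opens) : Set G.left).Nonempty := by
    refine ⟨pt (c * b⁻¹)⁻¹, ?_⟩
    change (ψ.left (pt (c * b⁻¹)⁻¹)) ∈ U
    have h3 : ψ.left (pt (c * b⁻¹)⁻¹) = pt ((c * b⁻¹)⁻¹ ≫ ψ) := rfl
    rw [h3, hψ, inv_inv, inv_mul_cancel_right]
    exact hc
  have h3 := nonempty_preirreducible_inter (φ.left ⁻¹ᵁ U).2 (ψ.left ⁻¹ᵁ U).2 h1 h2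
  obtain ⟨a, ha⟩ := exists_pt_mem G (φ.left ⁻¹ᵁ U ⊓ ψ.left ⁻¹ᵁ U) h3
  refine ⟨a, ?_, ?_⟩
  · rw [pt_tr, ← hφ]
    exact ha.1
  · rw [pt_tr, ← hψ]
    exact ha.2

/-- Sections of `L ⊗ L` from the theorem of the square. -/
theorem exists_section_square {G : Over (Spec (CommRingCat.of k))} [GrpObj G]
    [IsProper G.hom] [GeometricallyIntegral G.hom] {L : G.left.Modules} (hL : PicF.IsInvertible L)
    (s : Coh.structureModule G.left ⟶ L) (a : 𝟙_ (Over (Spec (CommRingCat.of k))) ⟶ G)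
    (M : G.left.Modules) (hM : PicF.IsInvertible M) (hLM : mk M hM = mk L hL * mk L hL) :
    ∃ t : Coh.structureModule G.left ⟶ M, CohB1.genLocus _ t =
      (tr a).left ⁻¹ᵁ (CohB1.genLocus L s) ⊓ (tr a⁻¹).left ⁻¹ᵁ (CohB1.genLocus L s) := by
  have h1 := Sga7.H260.Square.square (mk L hL) a
  have h2 : pull (tr a).left (mk L hL) * pull (tr a⁻¹).left (mk L hL) = mk M hM := by
    rw [hLM]
    exact h1
  rw [pull_mk, pull_mk, mk_mul_mk, mk_eq_iff] at h2
  obtain ⟨e⟩ := h2
  refine ⟨Ega2.Weight.tmulHom (Ega2.Weight.pullHom (tr a).left s) (Ega2.Weight.pullHom (tr a⁻¹).left s) ≫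
    e.hom, ?_⟩
  rw [Ega2.Weight.genLocus_comp, Ega2.Weight.genLocus_tmulHom (isInvertible_pullback _ hL)
    (isInvertible_pullback _ hL), Ega2.Weight.genLocus_pullHom _ hL,
    Ega2.Weight.genLocus_pullHom _ hL]

/-- Every point lies in such a locus. -/
theorem exists_section_mem [IsAlgClosed k] {G : Over (Spec (CommRingCat.of k))} [GrpObj G]
    [IsProper G.hom] [GeometricallyIntegral G.hom] {L : G.left.Modules} (hL : PicF.IsInvertible L)
    (s : Coh.structureModule G.left ⟶ L) (hs : (CohB1.genLocus L s : Set G.left).Nonempty)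
    (M : G.left.Modules) (hM : PicF.IsInvertible M) (hLM : mk M hM = mk L hL * mk L hL)
    (y : G.left) :
    ∃ (a : 𝟙_ (Over (Spec (CommRingCat.of k))) ⟶ G) (t : Coh.structureModule G.left ⟶ M),
      y ∈ CohB1.genLocus _ t ∧ CohB1.genLocus _ t =
      (tr a).left ⁻¹ᵁ (CohB1.genLocus L s) ⊓ (tr a⁻¹).left ⁻¹ᵁ (CohB1.genLocus L s) := by
  have hint : IsIntegral G.left := GeometricallyIntegral.isIntegral_of_subsingleton G.hom
  have hcs : CompactSpace G.left := QuasiCompact.compactSpace_of_compactSpace G.hom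
  obtain ⟨z, hz, hcl⟩ := IsClosed.exists_closed_singleton (S := closure ({y} : Set G.left))
      isClosed_closure ⟨y, subset_closure rfl⟩
  obtain ⟨b, rfl⟩ := exists_pt_eq G z hcl
  obtain ⟨a, ha, ha'⟩ := exists_translate (CohB1.genLocus L s) hs b
  obtain ⟨t, ht⟩ := exists_section_square hL s a M hM hLM
  refine ⟨a, t, ?_, ht⟩
  have h1 : pt b ∈ CohB1.genLocus _ t := by
    rw [ht]
    exact ⟨ha, ha'⟩
  have h2 : y ⤳ pt b := specializes_iff_mem_closure.mpr hz
  exact h2.mem_open (CohB1.genLocus _ t).2 h1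

end K449.SqSec
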